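import Cfsg.Agent.Lib.DihedralBlock.Order
import Cfsg.Agent.Lib.DihedralBlock.Make
import Cfsg.Agent.Lib.RankOne.OddGroup

/-!
# An element of order 4 generating its own centraliser, Sylow 2-subgroups dihedral of order 8

`w` has order 4 and `C(w) = ⟨w⟩`, `x` is a reflection, `t = w²`.  The odd core `O` of `C(t)` is
abelian and inverted by `w`; it is the product of `O ∩ C(x)` and `O ∩ C(xw)`.
-/

set_option autoImplicit false
set_option linter.unusedSectionVars false

namespace Cfsg.Agent.Lib.CentFour74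

open Subgroup
open Cfsg
open Cfsg.Agent.Lib Cfsg.Agent.Lib.DihedralBlock

variable {G : Type*} [Group G] [Finite G]

/-- The configuration. -/
structure Conf (P : Sylow 2 G) (w x : G) : Prop where
  dih : DSylow P w x 2
  self : ∀ g : G, g * w = w * g → g ∈ zpowers w
  one : ∀ u : G, orderOf u = 2 → IsConj (w ^ 2) u
  iso : Nonempty ((P : Subgroup G) ≃* DihedralGroup 4)

/-- The odd core of the centraliser of `w²`. -/
noncomputable abbrev core (w : G) : Subgroup G := oc (w ^ 2)

/-- Its part centralised by `x`. -/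
noncomputable abbrev fixPart (w x : G) : Subgroup G := core w ⊓ centralizer ({x} : Set G)

/-- In a group of odd order an involution gives a decomposition into fixed and inverted parts. -/
theorem card_fixed_mul_inverted (X : Subgroup G) (hodd : Odd (Nat.card X)) {s : G} (hs : s * s = 1)
    (hnorm : ∀ z ∈ X, s * z * s ∈ X) :
    Nat.card X = Nat.card ↥(X ⊓ centralizer ({s} : Set G)) * Nat.card (Cfsg.invertedBy X s) := by
  rw [← Nat.card_prod]
  refine (Nat.card_congr (Equiv.ofBijective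
    (fun z : ↥(X ⊓ centralizer ({s} : Set G)) × (Cfsg.invertedBy X s) =>
      (⟨(z.1 : G) * (z.2 : G), mul_mem z.1.2.1 ((RankOne.mem_invertedBy hs).1 z.2.2).1⟩ : X))
    ⟨?_, ?_⟩)).symm
  · rintro ⟨⟨a, ha⟩, ⟨b, hb⟩⟩ ⟨⟨a', ha'⟩, ⟨b', hb'⟩⟩ h
    obtain ⟨rfl, rfl⟩ := RankOne.fixed_mul_inverted_unique hodd hs hnorm ha.1
      (mem_centralizer_singleton_iff.1 ha.2) hb ha'.1 (mem_centralizer_singleton_iff.1 ha'.2) hb'
      (congrArg Subtype.val h)
    rfl
  · rintro ⟨z, hz⟩
    obtain ⟨a, b, ha, hat, hb, rfl⟩ := RankOne.exists_fixed_mul_inverted hodd hs hnorm hz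
    exact ⟨(⟨a, ha, mem_centralizer_singleton_iff.2 hat⟩, ⟨b, hb⟩), rfl⟩

/-- The other reflection. -/
theorem dsylow_swap {P : Sylow 2 G} {σ τ : G} {q : ℕ} (D : DSylow P σ τ q) :
    DSylow P σ (τ * σ) q := by
  have h1 : σ * τ * σ = τ := by
    calc σ * τ * σ = τ * (τ * σ * τ) * σ := by
          rw [← mul_assoc, ← mul_assoc, D.ττ, one_mul]
      _ = τ := by rw [D.rel, inv_mul_cancel_right]
  refine ⟨D.two_le, D.isPow, D.σ_mem, mul_mem D.τ_mem D.σ_mem, D.orderσ, ?_, ?_, ?_, ?_, D.card⟩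
  · rw [← mul_assoc, D.rel, inv_mul_cancel]
  · calc τ * σ * σ * (τ * σ) = τ * σ * (σ * τ * σ) := by group
      _ = σ⁻¹ := by rw [h1, D.rel]
  · intro v hv
    rcases D.decomp v hv with h | h
    · exact Or.inl h
    · refine Or.inr ?_
      rw [show τ * σ * v = τ * σ * τ * (τ * v) by rw [mul_assoc _ τ, ← mul_assoc τ τ, D.ττ, one_mul],
        D.rel]
      exact mul_mem (inv_mem (mem_zpowers σ)) h
  · exact fun h => D.τ_notMem ((mul_mem_cancel_right (mem_zpowers σ)).1 h)

namespace Conf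

variable {P : Sylow 2 G} {w x : G} (c : Conf P w x)
include c

theorem swap : Conf P w (x * w) := ⟨dsylow_swap c.dih, c.self, c.one, c.iso⟩

theorem tt : w ^ 2 * w ^ 2 = 1 := c.dih.JJ

theorem t_ne : w ^ 2 ≠ 1 := c.dih.J_ne

theorem t_order : orderOf (w ^ 2) = 2 := c.dih.orderJ

theorem w_four : w ^ 4 = 1 := by rw [← c.tt, ← pow_add]

theorem xx : x * x = 1 := c.dih.ττ

theorem x_inv : x⁻¹ = x := inv_eq_of_mul_eq_one_right c.xx

theorem x_ne : x ≠ 1 := fun h => c.dih.τ_notMem (h ▸ one_mem _)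

theorem x_order : orderOf x = 2 := orderOf_eq_prime (by rw [pow_two, c.xx]) c.x_ne

theorem x_ne_t : x ≠ w ^ 2 := fun h => c.dih.τ_notMem (h ▸ pow_mem (mem_zpowers w) 2)

theorem x_comm_t : x * w ^ 2 = w ^ 2 * x := c.dih.J_central c.dih.τ_mem

theorem odd_core : Odd (Nat.card (core w)) := KleinOrder.odd_card_O _

theorem comm_t {z : G} (hz : z ∈ core w) : z * w ^ 2 = w ^ 2 * z :=
  mem_centralizer_singleton_iff.1 (KleinOrder.O_le _ hz)

theorem norm_core {p z : G} (hp : p ∈ (P : Subgroup G)) (hz : z ∈ core w) :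
    p * z * p⁻¹ ∈ core w :=
  c.dih.P_normalizes_oc c.dih.J_mem c.dih.J_ne hp hz

theorem mem_core_of_odd {g : G} (hg : g * w ^ 2 = w ^ 2 * g) (ho : Odd (orderOf g)) : g ∈ core w :=
  c.dih.mem_oc_of_odd c.dih.J_mem c.dih.J_ne hg
    (fun h => Nat.not_even_iff_odd.2 ho (even_iff_two_dvd.2 h))

theorem odd_order {g : G} (hg : g ∈ core w) : Odd (orderOf g) :=
  Odd.of_dvd_nat c.odd_core ((Subgroup.orderOf_mk g hg).symm.dvd.trans (orderOf_dvd_natCard _))

theorem eq_one_of_P {p : G} (hp : p ∈ (P : Subgroup G)) (h : p ∈ core w) : p = 1 :=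
  c.dih.eq_one_of_mem c.odd_core hp h

theorem decomp_t {g : G} (hg : g * w ^ 2 = w ^ 2 * g) :
    ∃ p ∈ (P : Subgroup G), ∃ z ∈ core w, g = p * z := by
  obtain ⟨p, hp, -, z, hz, h⟩ := c.dih.exists_decomp c.dih.J_mem c.dih.J_ne hg
  exact ⟨p, hp, z, hz, h⟩

theorem fix_w {z : G} (hz : z ∈ core w) (h : z * w = w * z) : z = 1 :=
  c.eq_one_of_P (c.dih.rot_le (c.self z h)) hz

/-- `w` inverts the odd core of `C(w²)`. -/
theorem inv_w {z : G} (hz : z ∈ core w) : w * z * w⁻¹ = z⁻¹ := by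
  let f : core w → core w := fun u =>
    ⟨(u : G)⁻¹ * (w * (u : G) * w⁻¹), mul_mem (inv_mem u.2) (c.norm_core c.dih.σ_mem u.2)⟩
  have hf : Function.Injective f := by
    intro u v huv
    have h : (u : G)⁻¹ * (w * (u : G) * w⁻¹) = (v : G)⁻¹ * (w * (v : G) * w⁻¹) :=
      congrArg Subtype.val huv
    have h1 : (v : G) * (u : G)⁻¹ * w = w * ((v : G) * (u : G)⁻¹) := by
      calc (v : G) * (u : G)⁻¹ * w
          = (v : G) * ((u : G)⁻¹ * (w * (u : G) * w⁻¹)) * w * (u : G)⁻¹ := by group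
        _ = w * ((v : G) * (u : G)⁻¹) := by rw [h]; group
    exact Subtype.ext (mul_inv_eq_one.1 (c.fix_w (mul_mem v.2 (inv_mem u.2)) h1)).symm
  obtain ⟨u, hu⟩ := (Finite.injective_iff_surjective.1 hf) ⟨z, hz⟩
  have hu' : (u : G)⁻¹ * (w * (u : G) * w⁻¹) = z := congrArg Subtype.val hu
  have ht : w ^ 2 * (u : G) * (w ^ 2)⁻¹ = u := by rw [← c.comm_t u.2, mul_inv_cancel_right]
  rw [← hu']
  calc w * ((u : G)⁻¹ * (w * (u : G) * w⁻¹)) * w⁻¹
      = (w * (u : G) * w⁻¹)⁻¹ * (w ^ 2 * (u : G) * (w ^ 2)⁻¹) := by rw [pow_two]; group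
    _ = _ := by rw [ht]; group

theorem comm_core {a b : G} (ha : a ∈ core w) (hb : b ∈ core w) : a * b = b * a := by
  have h := c.inv_w (mul_mem ha hb)
  rw [show w * (a * b) * w⁻¹ = w * a * w⁻¹ * (w * b * w⁻¹) by group, c.inv_w ha, c.inv_w hb,
    ← _root_.mul_inv_rev, inv_inj] at h
  exact h.symm

theorem xw_fix_iff {z : G} (hz : z ∈ core w) :
    z * (x * w) = x * w * z ↔ x * z * x = z⁻¹ := by
  have hw : w * z = z⁻¹ * w := by rw [← c.inv_w hz]; group
  have h2 : x * w * z = x * z⁻¹ * x * (x * w) := by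
    rw [mul_assoc x w z, hw, ← mul_assoc (x * z⁻¹ * x), mul_assoc (x * z⁻¹) x x, c.xx, mul_one,
      mul_assoc]
  rw [h2, mul_left_inj]
  constructor
  · intro h
    nth_rewrite 2 [h]
    rw [_root_.mul_inv_rev, _root_.mul_inv_rev, inv_inv, c.x_inv, mul_assoc]
  · intro h
    have := congrArg (fun u => u⁻¹) h
    simp only [_root_.mul_inv_rev, c.x_inv, inv_inv] at this
    rw [mul_assoc]
    exact this.symm

theorem fixPart_le : fixPart w x ≤ core w := inf_le_left

theorem card_core :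
    Nat.card (core w) = Nat.card (fixPart w x) * Nat.card (fixPart w (x * w)) := by
  rw [card_fixed_mul_inverted (core w) c.odd_core c.xx (fun z hz => by
    have := c.norm_core c.dih.τ_mem hz
    rwa [c.x_inv] at this)]
  congr 1
  refine Nat.card_congr (Equiv.subtypeEquivRight fun z => ?_)
  rw [RankOne.mem_invertedBy c.xx, mem_inf, mem_centralizer_singleton_iff]
  exact and_congr_right fun hz => (c.xw_fix_iff hz).symm

/-- Elements of `O` fixed by both reflections are trivial. -/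
theorem fix_both {z : G} (hz : z ∈ core w) (h1 : z * x = x * z) (h2 : z * (x * w) = x * w * z) :
    z = 1 := by
  refine c.fix_w hz ?_
  calc z * w = x⁻¹ * (x * z) * w := by group
    _ = x⁻¹ * (z * (x * w)) := by rw [← h1]; group
    _ = w * z := by rw [h2]; group

theorem card_C :
    Nat.card (centralizer ({w ^ 2} : Set G)) =
      8 * (Nat.card (fixPart w x) * Nat.card (fixPart w (x * w))) := by
  rw [c.dih.card_centralizer_J, c.card_core]

theorem card_pair : Nat.card (centralizer ({w ^ 2, x} : Set G)) = 4 * Nat.card (fixPart w x) :=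
  c.dih.card_centralizer_pair

theorem centralizer_pair_swap :
    centralizer ({w ^ 2, w * x} : Set G) = centralizer ({w ^ 2, x * w} : Set G) := by
  have h : w * x = x * w * w ^ 2 := by
    have h1 : w * x = x * w⁻¹ := by
      rw [← c.dih.rel, ← mul_assoc, ← mul_assoc, c.xx, one_mul]
    rw [h1, mul_assoc, ← pow_succ']
    congr 1
    exact inv_eq_of_mul_eq_one_right (by rw [← pow_succ', c.w_four])
  ext g
  simp only [mem_centralizer_iff, Set.mem_insert_iff, Set.mem_singleton_iff, forall_eq_or_imp,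
    forall_eq]
  refine and_congr_right fun ht => ?_
  rw [h]
  have ht' : Commute (w ^ 2) g := ht
  constructor
  · intro hg
    have h2 := ((show Commute (x * w * w ^ 2) g from hg).mul_left ht').eq
    rwa [mul_assoc (x * w), c.tt, mul_one] at h2
  · exact fun hg => ((show Commute (x * w) g from hg).mul_left ht').eq

/-- `fixPart` depends only on the four-group. -/
theorem fixPart_swap_swap : fixPart w (x * w * w) = fixPart w x := by
  ext z
  simp only [mem_inf, mem_centralizer_singleton_iff]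
  refine and_congr_right fun hz => ?_
  have ht : Commute z (w ^ 2) := c.comm_t hz
  rw [mul_assoc x w w, ← pow_two]
  constructor
  · intro h
    have h2 := ((show Commute z (x * w ^ 2) from h).mul_right ht).eq
    rwa [mul_assoc x, c.tt, mul_one] at h2
  · exact fun h => ((show Commute z x from h).mul_right ht).eq

end Conf

end Cfsg.Agent.Lib.CentFour74
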