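import Mathlib

/-!
# Groups of order 24 or 72 without subgroups of index 2
-/

set_option autoImplicit false
set_option linter.unusedSectionVars false

namespace Cfsg.Agent.Lib.CentFour74

variable {X : Type*} [Group X] [Finite X]

/-- A nontrivial 2-group quotient gives a subgroup of index 2. -/
theorem exists_index_two_of_surjective {Y : Type*} [Group Y] [Finite Y] (f : X →* Y)
    (hf : Function.Surjective f) {k : ℕ} (hY : Nat.card Y = 2 ^ (k + 1)) :
    ∃ U : Subgroup X, U.index = 2 := by
  haveI : Fact (Nat.Prime 2) := ⟨Nat.prime_two⟩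
  obtain ⟨K, hK⟩ := Sylow.exists_subgroup_card_pow_prime 2 (G := Y) (n := k)
    (hY ▸ pow_dvd_pow 2 (Nat.le_succ k))
  refine ⟨K.comap f, ?_⟩
  rw [Subgroup.index_comap_of_surjective _ hf]
  have h := K.card_mul_index
  rw [hK, hY, pow_succ] at h
  exact Nat.eq_of_mul_eq_mul_left (by positivity) h

/-- Every such group has a normal subgroup of even order not divisible by 8. -/
theorem false_of_small (hcard : Nat.card X = 24 ∨ Nat.card X = 72)
    (hno : ∀ U : Subgroup X, U.index ≠ 2)
    (heven : ∀ K : Subgroup X, K.Normal → 2 ∣ Nat.card K → 8 ∣ Nat.card K) : False := by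
  classical
  haveI : Fact (Nat.Prime 3) := ⟨Nat.prime_three⟩
  haveI : Fact (Nat.Prime 2) := ⟨Nat.prime_two⟩
  let T : Sylow 3 X := default
  have hidx : (T : Subgroup X).index = 8 := by
    have h := (T : Subgroup X).card_mul_index
    rw [T.card_eq_multiplicity] at h
    rcases hcard with hc | hc <;> rw [hc] at h
    · rw [show (24 : ℕ) = 3 ^ 1 * 8 by norm_num, Nat.factorization_mul (by norm_num) (by norm_num),
        Finsupp.add_apply, Nat.prime_three.factorization_pow, Finsupp.single_eq_same,
        Nat.factorization_eq_zero_of_not_dvd (by norm_num : ¬ 3 ∣ 8)] at h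
      omega
    · rw [show (72 : ℕ) = 3 ^ 2 * 8 by norm_num, Nat.factorization_mul (by norm_num) (by norm_num),
        Finsupp.add_apply, Nat.prime_three.factorization_pow, Finsupp.single_eq_same,
        Nat.factorization_eq_zero_of_not_dvd (by norm_num : ¬ 3 ∣ 8)] at h
      omega
  have hn : Nat.card (Sylow 3 X) = 1 ∨ Nat.card (Sylow 3 X) = 4 := by
    have hd := T.card_dvd_index
    rw [hidx] at hd
    have hle := Nat.le_of_dvd (by norm_num) hd
    have hm : Nat.card (Sylow 3 X) % 3 = 1 % 3 := card_sylow_modEq_one 3 X
    interval_cases h : Nat.card (Sylow 3 X) <;> omega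
  rcases hn with hn | hn
  · rw [T.card_eq_index_normalizer, Subgroup.index_eq_one] at hn
    replace hn : (T : Subgroup X).Normal := Subgroup.normalizer_eq_top_iff.1 hn
    haveI := hn
    obtain ⟨U, hU⟩ := exists_index_two_of_surjective (QuotientGroup.mk' (T : Subgroup X))
      (QuotientGroup.mk'_surjective _) (k := 2) (by rw [← Subgroup.index, hidx]; norm_num)
    exact hno U hU
  · let φ := MulAction.toPermHom X (Sylow 3 X)
    have hker : φ.ker ≤ Subgroup.normalizer ((T : Subgroup X) : Set X) := fun g hg =>
      Sylow.smul_eq_iff_mem_normalizer.1 (Equiv.ext_iff.1 (MonoidHom.mem_ker.1 hg) T)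
    have h4 : 4 ∣ Nat.card φ.range := by
      rw [← Subgroup.index_ker, ← hn, T.card_eq_index_normalizer]
      exact Subgroup.index_dvd_of_le hker
    have hperm : Nat.card (Equiv.Perm (Sylow 3 X)) = 24 := by
      rw [Nat.card_perm, hn]; rfl
    have hle : Nat.card φ.range ∣ 24 := hperm ▸ Subgroup.card_subgroup_dvd_card _
    have hr : Nat.card φ.range = 4 ∨ Nat.card φ.range = 8 ∨ Nat.card φ.range = 12 ∨
        Nat.card φ.range = 24 := by
      have := Nat.le_of_dvd (by norm_num) hle
      obtain ⟨i, hi⟩ := h4
      have hi6 : i ≤ 6 := by omega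
      rw [hi] at hle ⊢
      interval_cases i <;> simp_all
    rcases hr with hr | hr | hr | hr
    · obtain ⟨U, hU⟩ := exists_index_two_of_surjective φ.rangeRestrict φ.rangeRestrict_surjective
        (k := 1) (by rw [hr]; norm_num)
      exact hno U hU
    · obtain ⟨U, hU⟩ := exists_index_two_of_surjective φ.rangeRestrict φ.rangeRestrict_surjective
        (k := 2) (by rw [hr]; norm_num)
      exact hno U hU
    · have h := φ.ker.card_mul_index
      rw [Subgroup.index_ker, hr] at h
      have h8 := heven φ.ker inferInstance (by rcases hcard with hc | hc <;> omega)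
      rcases hcard with hc | hc <;> omega
    · cases nonempty_fintype (Sylow 3 X)
      haveI : Nontrivial (Sylow 3 X) := by
        rw [← Finite.one_lt_card_iff_nontrivial, hn]; norm_num
      have hsurj : Function.Surjective φ := MonoidHom.range_eq_top.1
        (Subgroup.eq_top_of_card_eq _ (by rw [hr, hperm]))
      exact hno ((alternatingGroup (Sylow 3 X)).comap φ)
        (by rw [Subgroup.index_comap_of_surjective _ hsurj, alternatingGroup.index_eq_two])

end Cfsg.Agent.Lib.CentFour74
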