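import Cfsg.Agent.Lib.CentFour74.Local
import Cfsg.Agent.Lib.CentFour74.Small

/-!
# Both reflections having a nontrivial fixed part is impossible

Then `a = b`, the odd parts of the five involution centralisers generate a subgroup `K` of order
`a⁴` normalised by `P` and by the two elements of order 3, and its normaliser is too small.
-/

set_option autoImplicit false
set_option linter.unusedSectionVars false

namespace Cfsg.Agent.Lib.CentFour74

open Subgroup
open Cfsg
open Cfsg.Agent.Lib Cfsg.Agent.Lib.DihedralBlock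

variable {G : Type*} [Group G] [Finite G]

/-- The subgroup generated by the three odd parts of a four-group. -/
noncomputable abbrev threeSub (w x : G) : Subgroup G :=
  core w ⊔ oddSub x ⊔ oddSub (x * w ^ 2)

theorem mem_normalizer_of_conj (N : Subgroup G) {g : G} (hg : ∀ z ∈ N, g * z * g⁻¹ ∈ N) :
    g ∈ normalizer (N : Set G) := by
  have hmap : N.map (MulAut.conj g).toMonoidHom = N := by
    refine eq_of_le_of_card_ge ?_ ?_
    · rintro _ ⟨z, hz, rfl⟩
      exact hg z hz
    · rw [card_map_of_injective (MulAut.conj g).injective]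
  refine mem_normalizer_iff.2 fun z => ⟨hg z, fun h => ?_⟩
  rw [← hmap] at h
  obtain ⟨u, hu, hu'⟩ := h
  rwa [← (MulAut.conj g).injective hu']

namespace Conf

variable {P : Sylow 2 G} {w x : G} (c : Conf P w x)
include c

/-- An element permuting the three involutions normalises `threeSub`. -/
theorem conj_threeSub {g : G}
    (hg : ∀ v : G, (v = w ^ 2 ∨ v = x ∨ v = x * w ^ 2) →
      (g * v * g⁻¹ = w ^ 2 ∨ g * v * g⁻¹ = x ∨ g * v * g⁻¹ = x * w ^ 2))
    {z : G} (hz : z ∈ threeSub w x) : g * z * g⁻¹ ∈ threeSub w x := by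
  have key : ∀ v : G, (v = w ^ 2 ∨ v = x ∨ v = x * w ^ 2) →
      oddSub v ≤ (threeSub w x).comap (MulAut.conj g).toMonoidHom := by
    intro v hv u hu
    have hvo : orderOf v = 2 := by
      rcases hv with rfl | rfl | rfl
      exacts [c.t_order, c.x_order, c.xt_order]
    have h := c.conj_mem_oddSub (g := g) hvo hu
    show g * u * g⁻¹ ∈ threeSub w x
    rcases hg v hv with e | e | e <;> rw [e] at h
    · rw [c.oddSub_t] at h
      exact mem_sup_left (mem_sup_left h)
    · exact mem_sup_left (mem_sup_right h)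
    · exact mem_sup_right h
  have hle : threeSub w x ≤ (threeSub w x).comap (MulAut.conj g).toMonoidHom :=
    sup_le (sup_le (c.oddSub_t ▸ key _ (Or.inl rfl)) (key _ (Or.inr (Or.inl rfl))))
      (key _ (Or.inr (Or.inr rfl)))
  exact hle hz

/-- A subgroup of the right order containing the three odd parts is generated by them. -/
theorem threeSub_eq {N : Subgroup G} (hodd : Odd (Nat.card N)) (hle : threeSub w x ≤ N)
    (hcard : Nat.card (fixPart w x) ^ 2 * Nat.card N =
      (Nat.card (fixPart w x) * Nat.card (fixPart w (x * w))) ^ 3) : threeSub w x = N := by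
  refine eq_of_le_of_card_ge hle (le_of_eq ?_)
  have hK : Odd (Nat.card (threeSub w x)) := Odd.of_dvd_nat hodd (card_dvd_of_le hle)
  have hoddz : ∀ z ∈ threeSub w x, Odd (orderOf z) := fun z hz =>
    Odd.of_dvd_nat hK ((Subgroup.orderOf_mk z hz).symm.dvd.trans (orderOf_dvd_natCard _))
  have ht : ∀ v : G, (v = w ^ 2 ∨ v = x ∨ v = x * w ^ 2) →
      (w ^ 2 * v * (w ^ 2)⁻¹ = w ^ 2 ∨ w ^ 2 * v * (w ^ 2)⁻¹ = x ∨
        w ^ 2 * v * (w ^ 2)⁻¹ = x * w ^ 2) := by
    rintro v (rfl | rfl | rfl)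
    · left; group
    · right; left; rw [← c.x_comm_t, mul_inv_cancel_right]
    · right; right; rw [← mul_assoc, ← c.x_comm_t, mul_inv_cancel_right]
  have hx : ∀ v : G, (v = w ^ 2 ∨ v = x ∨ v = x * w ^ 2) →
      (x * v * x⁻¹ = w ^ 2 ∨ x * v * x⁻¹ = x ∨ x * v * x⁻¹ = x * w ^ 2) := by
    rintro v (rfl | rfl | rfl)
    · left; rw [c.x_comm_t, mul_inv_cancel_right]
    · right; left; group
    · right; right; rw [c.x_comm_t, ← mul_assoc, c.x_comm_t, mul_inv_cancel_right]
  have hfix : ∀ v : G, orderOf v = 2 → oddSub v ≤ threeSub w x →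
      threeSub w x ⊓ centralizer ({v} : Set G) = oddSub v := by
    intro v hv hvle
    refine le_antisymm (fun z hz => ?_) (fun z hz => ?_)
    · exact (c.mem_oddSub hv).2 ⟨mem_centralizer_singleton_iff.1 hz.2, hoddz z hz.1⟩
    · exact ⟨hvle hz, mem_centralizer_singleton_iff.2 ((c.mem_oddSub hv).1 hz).1⟩
  have hpair : threeSub w x ⊓ centralizer ({w ^ 2, x} : Set G) = fixPart w x := by
    ext z
    have : z ∈ centralizer ({w ^ 2, x} : Set G) ↔ z * w ^ 2 = w ^ 2 * z ∧ z * x = x * z := by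
      simp only [mem_centralizer_iff, Set.mem_insert_iff, Set.mem_singleton_iff, forall_eq_or_imp,
        forall_eq, forall_eq', eq_comm]
    rw [mem_inf, this, mem_inf, mem_centralizer_singleton_iff (k := z) (g := x)]
    exact ⟨fun h => ⟨c.mem_core_of_odd h.2.1 (hoddz z h.1), h.2.2⟩,
      fun h => ⟨mem_sup_left (mem_sup_left h.1), c.comm_t h.1, h.2⟩⟩
  have hfour := four_card (threeSub w x) hK (s := w ^ 2) (u := x) c.tt c.xx c.x_comm_t.symm c.t_ne
    c.x_ne c.x_ne_t.symm (fun z hz => c.conj_threeSub ht hz) (fun z hz => c.conj_threeSub hx hz)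
  rw [← c.x_comm_t, hpair, hfix (w ^ 2) c.t_order (c.oddSub_t ▸ le_sup_left.trans le_sup_left),
    hfix x c.x_order (le_sup_right.trans le_sup_left), hfix _ c.xt_order le_sup_right,
    c.card_oddSub c.t_order, c.card_oddSub c.x_order, c.card_oddSub c.xt_order] at hfour
  refine Nat.eq_of_mul_eq_mul_left (pow_pos (Nat.card_pos (α := fixPart w x)) 2) ?_
  rw [hcard, ← hfour]
  ring

theorem le_cent_of_mem {v a : G} (hv : orderOf v = 2) (ha : a ∈ oddSub v) :
    oddSub v ≤ centralizer ({a} : Set G) := fun _ hu =>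
  mem_centralizer_singleton_iff.2 (c.comm_oddSub hv hu ha)

theorem eq_cards (hperf : commutator G = ⊤) {a₀ b₀ : G} (ha : a₀ ∈ fixPart w x) (ha1 : a₀ ≠ 1)
    (hb : b₀ ∈ fixPart w (x * w)) (hb1 : b₀ ≠ 1) :
    Nat.card (fixPart w x) = Nat.card (fixPart w (x * w)) := by
  have h1 := c.nVal_dvd ha ha1
  rw [(c.exists_core_half ha ha1 hperf hb hb1).1] at h1
  have ha' : a₀ ∈ fixPart w (x * w * w) := by rwa [c.fixPart_swap_swap]
  have h2 := c.swap.nVal_dvd hb hb1
  rw [(c.swap.exists_core_half hb hb1 hperf ha' ha1).1, c.fixPart_swap_swap] at h2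
  exact Nat.dvd_antisymm h2 h1

/-- If `a = b` then `oddSub y` centralises `a₀`. -/
theorem oddSub_y_le (hperf : commutator G = ⊤) {a₀ b₀ : G} (ha : a₀ ∈ fixPart w x) (ha1 : a₀ ≠ 1)
    (hb : b₀ ∈ fixPart w (x * w)) (hb1 : b₀ ≠ 1) :
    oddSub (x * w) ≤ centralizer ({a₀} : Set G) := by
  have h : Lsub w x a₀ = oddSub (x * w) := by
    refine eq_of_le_of_card_ge inf_le_left (le_of_eq ?_)
    rw [c.card_Lsub ha ha1, (c.exists_core_half ha ha1 hperf hb hb1).1,
      c.card_oddSub c.swap.x_order, c.eq_cards hperf ha ha1 hb hb1]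
  exact h ▸ inf_le_right

/-- The contradiction. -/
theorem false_of_both [IsSimpleGroup G] (hperf : commutator G = ⊤) {a₀ b₀ : G}
    (ha : a₀ ∈ fixPart w x) (ha1 : a₀ ≠ 1) (hb : b₀ ∈ fixPart w (x * w)) (hb1 : b₀ ≠ 1)
    (hbound : Nat.card G ≤ 360 * Nat.card (fixPart w x) ^ 4) : False := by
  classical
  haveI : Fact (Nat.Prime 2) := ⟨Nat.prime_two⟩
  have hab := c.eq_cards hperf ha ha1 hb hb1
  obtain ⟨hnb, N, hN, hNcard⟩ := c.exists_core_half ha ha1 hperf hb hb1
  rw [hnb, ← hab] at hNcard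
  set A := Nat.card (fixPart w x) with hA
  set y := x * w with hy
  have ha' : a₀ ∈ fixPart w (y * w) := by rwa [hy, c.fixPart_swap_swap]
  have hN4 : Nat.card N = A ^ 4 := by rw [hNcard]; ring
  have hAodd : Odd A :=
    Odd.of_dvd_nat c.odd_core (card_dvd_of_le c.fixPart_le)
  have hNodd : Odd (Nat.card N) := by rw [hN4]; exact hAodd.pow
  have hat : a₀ * w ^ 2 = w ^ 2 * a₀ := c.comm_t ha.1
  have hax : a₀ * x = x * a₀ := mem_centralizer_singleton_iff.1 ha.2
  have haxt : a₀ * (x * w ^ 2) = x * w ^ 2 * a₀ := by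
    rw [← mul_assoc, hax, mul_assoc, hat, mul_assoc]
  have hby : b₀ * y = y * b₀ := mem_centralizer_singleton_iff.1 hb.2
  have hyx : y * (x * w ^ 2) * y⁻¹ = x := by
    calc y * (x * w ^ 2) * y⁻¹ = x * (w * x * w⁻¹ * (w * w ^ 2 * w⁻¹)) * x⁻¹ := by
          rw [hy]; group
      _ = x := by
          rw [c.wxw, show w * w ^ 2 * w⁻¹ = w ^ 2 by group, mul_assoc x (w ^ 2), c.tt, mul_one,
            mul_inv_cancel_right]
  -- the five odd parts centralise `a₀` and `b₀`
  have hxtb : oddSub (x * w ^ 2) ≤ centralizer ({b₀} : Set G) := by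
    have h := c.swap.oddSub_y_le hperf hb hb1 ha' ha1
    rwa [mul_assoc x w w, ← pow_two] at h
  have hfive : ∀ v : G, (v = w ^ 2 ∨ v = x ∨ v = x * w ^ 2 ∨ v = y ∨ v = y * w ^ 2) →
      oddSub v ≤ centralizer ({a₀} : Set G) ∧ oddSub v ≤ centralizer ({b₀} : Set G) := by
    have hyA := c.oddSub_y_le hperf ha ha1 hb hb1
    have hyB : oddSub y ≤ centralizer ({b₀} : Set G) := c.le_cent_of_mem c.swap.x_order
      ((c.mem_oddSub c.swap.x_order).2 ⟨hby, c.odd_order hb.1⟩)
    rintro v (h | h | h | h | h) <;> subst v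
    · rw [c.oddSub_t]
      exact ⟨c.core_le_cent ha, fun z hz =>
        mem_centralizer_singleton_iff.2 (c.comm_core hz hb.1)⟩
    · refine ⟨c.le_cent_of_mem c.x_order ((c.mem_oddSub c.x_order).2 ⟨hax, c.odd_order ha.1⟩),
        fun z hz => ?_⟩
      have hz' : y⁻¹ * z * y ∈ oddSub (x * w ^ 2) := by
        have h := c.conj_mem_oddSub (g := y⁻¹) c.x_order hz
        rwa [inv_inv, show y⁻¹ * x * y = x * w ^ 2 by nth_rewrite 1 [← hyx]; group] at h
      have h := conj_mem_cent (g := y) (Or.inl (c.y_fix hb).1) (hxtb hz')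
      rwa [show y * (y⁻¹ * z * y) * y⁻¹ = z by group] at h
    · exact ⟨c.le_cent_of_mem c.xt_order ((c.mem_oddSub c.xt_order).2 ⟨haxt, c.odd_order ha.1⟩),
        hxtb⟩
    · exact ⟨hyA, hyB⟩
    · have hz' : ∀ z ∈ oddSub (y * w ^ 2), x⁻¹ * z * x ∈ oddSub y := fun z hz => by
        have h := c.conj_mem_oddSub (g := x⁻¹) c.swap.xt_order hz
        rwa [inv_inv, show x⁻¹ * (y * w ^ 2) * x = y by
          conv_lhs => rw [hy, ← c.x_conj_y]
          group
          exact hy.symm] at h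
      have hxa : x ∈ signCent a₀ := cent_le_signCent _ (c.x_cent ha)
      have hxb : x ∈ signCent b₀ := Or.inr (c.y_fix hb).2
      constructor <;> intro z hz
      · have h := conj_mem_cent hxa (hyA (hz' z hz))
        rwa [show x * (x⁻¹ * z * x) * x⁻¹ = z by group] at h
      · have h := conj_mem_cent hxb (hyB (hz' z hz))
        rwa [show x * (x⁻¹ * z * x) * x⁻¹ = z by group] at h
  have hleN : ∀ v : G, (v = w ^ 2 ∨ v = x ∨ v = x * w ^ 2 ∨ v = y ∨ v = y * w ^ 2) →
      oddSub v ≤ N := by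
    intro v hv z hz
    have hvo : orderOf v = 2 := by
      rcases hv with rfl | rfl | rfl | rfl | rfl
      exacts [c.t_order, c.x_order, c.xt_order, c.swap.x_order, c.swap.xt_order]
    exact (hN z).2 ⟨(hfive v hv).1 hz, (hfive v hv).2 hz, ((c.mem_oddSub hvo).1 hz).2⟩
  have h1 : threeSub w x = N := by
    refine c.threeSub_eq hNodd (sup_le (sup_le ?_ ?_) ?_) ?_
    · rw [← c.oddSub_t]; exact hleN _ (Or.inl rfl)
    · exact hleN _ (Or.inr (Or.inl rfl))
    · exact hleN _ (Or.inr (Or.inr (Or.inl rfl)))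
    · rw [hN4, ← hab]; ring
  have h2 : threeSub w y = N := by
    refine c.swap.threeSub_eq hNodd (sup_le (sup_le ?_ ?_) ?_) ?_
    · rw [← c.oddSub_t]; exact hleN _ (Or.inl rfl)
    · exact hleN _ (Or.inr (Or.inr (Or.inr (Or.inl rfl))))
    · exact hleN _ (Or.inr (Or.inr (Or.inr (Or.inr rfl))))
    · rw [hN4, ← hab, c.fixPart_swap_swap, ← hA]; ring
  -- the normaliser
  set M := normalizer (N : Set G) with hM
  obtain ⟨h, -, hht, hhxt, hhx⟩ := c.exists_cycle hperf
  obtain ⟨h', -, hht', hhyt', hhy'⟩ := c.swap.exists_cycle hperf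
  have hperm : ∀ g : G, (∀ v : G, (v = w ^ 2 ∨ v = x ∨ v = x * w ^ 2) →
      (g * v * g⁻¹ = w ^ 2 ∨ g * v * g⁻¹ = x ∨ g * v * g⁻¹ = x * w ^ 2)) → g ∈ M := by
    intro g hg
    refine mem_normalizer_of_conj N fun z hz => ?_
    rw [← h1] at hz ⊢
    exact c.conj_threeSub hg hz
  have hhM : h ∈ M := hperm h (by
    rintro v (rfl | rfl | rfl)
    exacts [Or.inr (Or.inr hht), Or.inl hhx, Or.inr (Or.inl hhxt)])
  have hh'M : h' ∈ M := by
    refine mem_normalizer_of_conj N fun z hz => ?_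
    rw [← h2] at hz ⊢
    refine c.swap.conj_threeSub ?_ hz
    rintro v (rfl | rfl | rfl)
    exacts [Or.inr (Or.inr hht'), Or.inl hhy', Or.inr (Or.inl hhyt')]
  have hwM : w ∈ M := hperm w (by
    rintro v (rfl | rfl | rfl)
    exacts [Or.inl (by group), Or.inr (Or.inr c.wxw), Or.inr (Or.inl c.wxtw)])
  have hxM : x ∈ M := hperm x (by
    rintro v (rfl | rfl | rfl)
    · left; rw [c.x_comm_t, mul_inv_cancel_right]
    · right; left; group
    · right; right; rw [c.x_comm_t, ← mul_assoc, c.x_comm_t, mul_inv_cancel_right])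
  have hPM : (P : Subgroup G) ≤ M := by
    intro p hp
    obtain ⟨k, -, rfl | rfl⟩ := c.P_cases hp
    · exact pow_mem hwM k
    · exact mul_mem hxM (pow_mem hwM k)
  have hA2 : 2 ≤ A := by
    haveI : Nontrivial (fixPart w x) :=
      ⟨⟨⟨a₀, ha⟩, 1, fun h => ha1 (congrArg Subtype.val h)⟩⟩
    exact Finite.one_lt_card
  have hG24 : 24 < Nat.card G := by
    have h8 : Nat.card (centralizer ({w ^ 2} : Set G)) ≤ Nat.card G := Nat.card_le_card_of_injective _
      Subtype.coe_injective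
    rw [c.card_C, ← hy, ← hab, ← hA] at h8
    have : 2 * 2 ≤ A * A := Nat.mul_le_mul hA2 hA2
    omega
  have hMtop : M ≠ ⊤ := by
    intro htop
    have hnormal : N.Normal := normalizer_eq_top_iff.1 htop
    rcases IsSimpleGroup.eq_bot_or_eq_top_of_normal N hnormal with h | h
    · rw [h, Subgroup.card_bot] at hN4
      have : 1 < A ^ 4 := Nat.one_lt_pow (by norm_num) (by omega)
      omega
    · rw [h, Subgroup.card_top] at hNodd
      have : 2 ∣ Nat.card G := c.t_order ▸ orderOf_dvd_natCard (w ^ 2)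
      rw [Nat.odd_iff] at hNodd
      omega
  have hidx := five_le_index_of_simple hG24 hMtop
  have hGM := M.card_mul_index
  have h16 : ¬ 16 ∣ Nat.card G := by
    intro hd
    have hfac := P.card_eq_multiplicity
    rw [c.dih.card] at hfac
    have := (Nat.prime_two.pow_dvd_iff_le_factorization Nat.card_pos.ne').1
      (show 2 ^ 4 ∣ Nat.card G from hd)
    have h3 : (Nat.card G).factorization 2 = 3 :=
      Nat.pow_right_injective le_rfl (show 2 ^ _ = 2 ^ 3 by rw [← hfac])
    omega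
  have h16M : ¬ 16 ∣ Nat.card M := fun hd => h16 (hd.trans (card_subgroup_dvd_card M))
  -- the quotient
  set N' := N.subgroupOf M with hN'
  haveI : N'.Normal := normal_subgroupOf_of_le_normalizer le_rfl
  have hN'card : Nat.card N' = A ^ 4 := by
    rw [hN', Nat.card_congr (subgroupOfEquivOfLe (le_normalizer (H := N))).toEquiv, hN4]
  set m := Nat.card (M ⧸ N') with hm
  have hMm : Nat.card M = m * A ^ 4 := by
    rw [card_eq_card_quotient_mul_card_subgroup N', hN'card]
  have hApos : 0 < A ^ 4 := by positivity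
  have hm72 : m ≤ 72 := by
    have h5 : Nat.card M * 5 ≤ Nat.card M * M.index := Nat.mul_le_mul_left _ hidx
    rw [hGM] at h5
    have : m * 5 * A ^ 4 ≤ 360 * A ^ 4 := by
      calc m * 5 * A ^ 4 = Nat.card M * 5 := by rw [hMm]; ring
        _ ≤ _ := h5.trans hbound
    have := Nat.le_of_mul_le_mul_right this hApos
    omega
  have h8m : 8 ∣ m := by
    have h8 : 2 ^ 3 ∣ Nat.card M := by
      have := card_dvd_of_le hPM
      rw [c.dih.card] at this
      norm_num at this ⊢
      exact this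
    rw [hMm] at h8
    exact (Nat.Coprime.dvd_of_dvd_mul_right
      (Nat.Coprime.pow_left 3 (Nat.coprime_two_left.2 hAodd.pow)) h8)
  have h3m : 3 ∣ m := by
    set q : M ⧸ N' := QuotientGroup.mk (⟨h, hhM⟩ : M) with hq
    by_contra h3
    -- then `h ^ 3` generates a subgroup containing `h` modulo `N`
    have ho : orderOf q ∣ m := orderOf_dvd_natCard q
    have hk : ¬ 3 ∣ orderOf q := fun hd => h3 (hd.trans ho)
    have hmem : (⟨h, hhM⟩ : M) ^ orderOf q ∈ N' := by
      rw [← QuotientGroup.eq_one_iff, QuotientGroup.mk_pow, pow_orderOf_eq_one]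
    simp only [N', mem_subgroupOf, coe_pow] at hmem
    set k := orderOf q
    have h3fix : ∀ j : ℕ, h ^ (3 * j) * w ^ 2 * (h ^ (3 * j))⁻¹ = w ^ 2 := by
      intro j
      induction j with
      | zero => simp
      | succ j ih =>
        calc h ^ (3 * (j + 1)) * w ^ 2 * (h ^ (3 * (j + 1)))⁻¹
            = h * (h * (h * (h ^ (3 * j) * w ^ 2 * (h ^ (3 * j))⁻¹) * h⁻¹) * h⁻¹) * h⁻¹ := by
              rw [show 3 * (j + 1) = 1 + (1 + (1 + 3 * j)) by ring, pow_add, pow_add, pow_add,
                pow_one]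
              group
          _ = w ^ 2 := by rw [ih, hht, hhxt, hhx]
    have hne : h ^ k * w ^ 2 * (h ^ k)⁻¹ ≠ w ^ 2 := by
      have : h ^ k = h ^ (k % 3) * h ^ (3 * (k / 3)) := by rw [← pow_add, Nat.mod_add_div]
      have e : h ^ k * w ^ 2 * (h ^ k)⁻¹ = h ^ (k % 3) * w ^ 2 * (h ^ (k % 3))⁻¹ := by
        rw [this]
        conv_rhs => rw [← h3fix (k / 3)]
        group
      rw [e]
      have hlt : k % 3 = 1 ∨ k % 3 = 2 := by omega
      rcases hlt with e' | e' <;> rw [e']
      · rw [pow_one, hht]; exact c.xt_ne_t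
      · rw [pow_two h, show h * h * w ^ 2 * (h * h)⁻¹ = h * (h * w ^ 2 * h⁻¹) * h⁻¹ by group, hht,
          hhxt]
        exact c.x_ne_t
    refine hne ?_
    -- the commutator lies in `N ∩ P`
    have htM : w ^ 2 ∈ M := pow_mem hwM 2
    have hcomm : h ^ k * w ^ 2 * (h ^ k)⁻¹ * (w ^ 2)⁻¹ ∈ N := by
      rw [show h ^ k * w ^ 2 * (h ^ k)⁻¹ * (w ^ 2)⁻¹ =
        h ^ k * (w ^ 2 * (h ^ k)⁻¹ * (w ^ 2)⁻¹) by group]
      exact mul_mem hmem ((mem_normalizer_iff.1 htM _).1 (inv_mem hmem))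
    have hP : h ^ k * w ^ 2 * (h ^ k)⁻¹ * (w ^ 2)⁻¹ ∈ (P : Subgroup G) := by
      refine mul_mem ?_ (inv_mem (pow_mem c.dih.σ_mem 2))
      have hcases : ∀ j : ℕ, h ^ j * w ^ 2 * (h ^ j)⁻¹ = w ^ 2 ∨ h ^ j * w ^ 2 * (h ^ j)⁻¹ = x ∨
          h ^ j * w ^ 2 * (h ^ j)⁻¹ = x * w ^ 2 := by
        intro j
        induction j with
        | zero => left; simp
        | succ j ih =>
          rw [show h ^ (j + 1) * w ^ 2 * (h ^ (j + 1))⁻¹ =
            h * (h ^ j * w ^ 2 * (h ^ j)⁻¹) * h⁻¹ by rw [pow_succ']; group]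
          rcases ih with e | e | e <;> rw [e]
          exacts [Or.inr (Or.inr hht), Or.inl hhx, Or.inr (Or.inl hhxt)]
      rcases hcases k with e | e | e <;> rw [e]
      exacts [pow_mem c.dih.σ_mem 2, c.dih.τ_mem, mul_mem c.dih.τ_mem (pow_mem c.dih.σ_mem 2)]
    exact mul_inv_eq_one.1 (c.dih.eq_one_of_mem hNodd hP hcomm)
  have hm' : m = 24 ∨ m = 72 := by
    have h48 : m ≠ 48 := fun he => h16M (by rw [hMm, he]; exact Dvd.dvd.mul_right (by norm_num) _)
    have hpos : 0 < m := Nat.card_pos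
    omega
  -- involutions of `M`
  have hinv : ∀ U : Subgroup M, U.Normal → (∃ u ∈ U, orderOf u = 2) →
      ∀ p ∈ (P : Subgroup G), ∀ hp : p ∈ M, (⟨p, hp⟩ : M) ∈ U := by
    intro U hU hex
    obtain ⟨u, hu, hu2⟩ := hex
    have hconj : ∀ (g : G) (hg : g ∈ M) (v v' : G) (hv : v ∈ M) (hv' : v' ∈ M),
        g * v * g⁻¹ = v' → (⟨v, hv⟩ : M) ∈ U → (⟨v', hv'⟩ : M) ∈ U := by
      intro g hg v v' hv hv' e hmem
      have := hU.conj_mem _ hmem ⟨g, hg⟩
      convert this using 1
      exact Subtype.ext e.symm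
    have htM : w ^ 2 ∈ M := pow_mem hwM 2
    have hxtM : x * w ^ 2 ∈ M := mul_mem hxM htM
    have hyM : y ∈ M := mul_mem hxM hwM
    have hytM : y * w ^ 2 ∈ M := mul_mem hyM htM
    have hh2 : h * h * x * (h * h)⁻¹ = x * w ^ 2 := by
      rw [show h * h * x * (h * h)⁻¹ = h * (h * x * h⁻¹) * h⁻¹ by group, hhx, hht]
    have htU : (⟨w ^ 2, htM⟩ : M) ∈ U := by
      obtain ⟨g, hg⟩ := SECount.exists_conj_le_sylow (P.subtype hPM)
        (V := zpowers u) (IsPGroup.of_card (n := 1) (by rw [Nat.card_zpowers, hu2, pow_one]))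
      have hmem : ((g * u * g⁻¹ : M) : G) ∈ (P : Subgroup G) :=
        Subgroup.mem_subgroupOf.1 (hg ⟨u, mem_zpowers u, rfl⟩)
      have hgu : g * u * g⁻¹ ∈ U := hU.conj_mem u hu g
      have ho : orderOf (g * u * g⁻¹) = 2 := by rw [orderOf_conjugate, hu2]
      have key : ∀ (p : G) (hp : p ∈ M), ((g * u * g⁻¹ : M) : G) = p → (⟨p, hp⟩ : M) ∈ U :=
        fun p hp e => by convert hgu using 1; exact Subtype.ext e.symm
      rcases c.involution_of_P hmem (by
          rw [← pow_two, ← Subgroup.coe_pow, ← ho, pow_orderOf_eq_one]; rfl) with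
        e' | e' | e' | e' | e' | e'
      · rw [(Subtype.ext e' : g * u * g⁻¹ = 1), orderOf_one] at ho
        omega
      · exact key _ htM e'
      · exact hconj h hhM x (w ^ 2) hxM htM hhx (key _ hxM e')
      · exact hconj (h * h) (mul_mem hhM hhM) (x * w ^ 2) (w ^ 2) hxtM htM (by
          rw [show h * h * (x * w ^ 2) * (h * h)⁻¹ = h * (h * (x * w ^ 2) * h⁻¹) * h⁻¹ by group,
            hhxt, hhx]) (key _ hxtM e')
      · exact hconj h' hh'M y (w ^ 2) hyM htM hhy' (key _ hyM e')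
      · exact hconj (h' * h') (mul_mem hh'M hh'M) (y * w ^ 2) (w ^ 2) hytM htM (by
          rw [show h' * h' * (y * w ^ 2) * (h' * h')⁻¹ = h' * (h' * (y * w ^ 2) * h'⁻¹) * h'⁻¹ by
            group, hhyt', hhy']) (key _ hytM e')
    have hxtU := hconj h hhM (w ^ 2) (x * w ^ 2) htM hxtM hht htU
    have hxU := hconj h hhM (x * w ^ 2) x hxtM hxM hhxt hxtU
    have hytU := hconj h' hh'M (w ^ 2) (y * w ^ 2) htM hytM hht' htU
    have hyU := hconj h' hh'M (y * w ^ 2) y hytM hyM hhyt' hytU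
    have hwU : (⟨w, hwM⟩ : M) ∈ U := by
      have := U.mul_mem hxU hyU
      convert this using 1
      exact Subtype.ext (by show w = x * (x * w); rw [← mul_assoc, c.xx, one_mul])
    intro p hp hpM
    obtain ⟨k, -, rfl | rfl⟩ := c.P_cases hp
    · exact U.pow_mem hwU k
    · exact U.mul_mem hxU (U.pow_mem hwU k)
  have h8U : ∀ U : Subgroup M, U.Normal → (∃ u ∈ U, orderOf u = 2) → 8 ∣ Nat.card U := by
    intro U hU hex
    have hle : (P : Subgroup G).subgroupOf M ≤ U := fun p hp =>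
      hinv U hU hex (p : G) hp p.2
    have := card_dvd_of_le hle
    rwa [Nat.card_congr (subgroupOfEquivOfLe hPM).toEquiv, c.dih.card] at this
  refine false_of_small hm' ?_ ?_
  · intro V hV
    have hUi : (V.comap (QuotientGroup.mk' N')).index = 2 := by
      rw [index_comap_of_surjective _ (QuotientGroup.mk'_surjective _), hV]
    set U := V.comap (QuotientGroup.mk' N')
    have htU : (⟨w ^ 2, pow_mem hwM 2⟩ : M) ∈ U := by
      have := sq_mem_of_index_two hUi (⟨w, hwM⟩ : M)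
      exact this
    have h8 := h8U U (normal_of_index_eq_two hUi)
      ⟨_, htU, by rw [← Subgroup.orderOf_coe]; exact c.t_order⟩
    have hc := U.card_mul_index
    rw [hUi] at hc
    exact h16M (hc ▸ Nat.mul_dvd_mul h8 dvd_rfl)
  · intro V hV h2V
    set U := V.comap (QuotientGroup.mk' N') with hU
    have hcard : Nat.card U = Nat.card V * A ^ 4 := by
      have h1 := U.card_mul_index
      rw [hU, index_comap_of_surjective _ (QuotientGroup.mk'_surjective _), hMm, hm,
        ← V.card_mul_index] at h1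
      refine Nat.eq_of_mul_eq_mul_right (Nat.pos_of_ne_zero (index_ne_zero_of_finite (H := V))) ?_
      rw [h1]; ring
    have hUn : U.Normal := hV.comap _
    obtain ⟨u, hu⟩ := exists_prime_orderOf_dvd_card' 2
      (show 2 ∣ Nat.card U from hcard ▸ h2V.mul_right _)
    have h8 := h8U U hUn ⟨u, u.2, by rw [Subgroup.orderOf_coe]; exact hu⟩
    rw [hcard] at h8
    exact (Nat.Coprime.dvd_of_dvd_mul_right
      (Nat.Coprime.pow_left 3 (Nat.coprime_two_left.2 hAodd.pow)) (show 2 ^ 3 ∣ _ from h8))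

end Conf

end Cfsg.Agent.Lib.CentFour74
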