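import Cfsg.Agent.Lib.CentFour74.Basic
import Cfsg.Agent.Lib.Chars.TwoDegrees
import Cfsg.Agent.Lib.CharCount.Basic

/-!
# The two order formulas from the principal 2-block
-/

set_option autoImplicit false
set_option linter.unusedSectionVars false

namespace Cfsg.Agent.Lib.CentFour74

open Subgroup
open Cfsg
open Cfsg.Agent.Lib Cfsg.Agent.Lib.DihedralBlock

universe u

variable {G : Type u} [Group G] [Finite G]

/-- A character with a sign as value at an involution has odd degree. -/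
theorem odd_charDegree (χ : IrrCharacter G) {t : G} (ht : orderOf t = 2) (s : ℤ)
    (hs : s = 1 ∨ s = -1) (hv : (χ : G → ℂ) t = s) : Odd (charDegree (χ : G → ℂ)) := by
  classical
  obtain ⟨ι, _, μ, hm, hval⟩ := exists_roots_pow χ t
  rw [ht] at hm
  have h0 := hval 0
  have h1 := hval 1
  rw [pow_zero, ← (deg_spec χ).1] at h0
  rw [pow_one, hv] at h1
  simp only [pow_zero, Finset.sum_const, Finset.card_univ, nsmul_eq_mul, mul_one] at h0
  simp only [pow_one] at h1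
  have hsq : ∀ i, μ i = 1 ∨ μ i = -1 := fun i =>
    mul_self_eq_one_iff.1 (by rw [← pow_two]; exact hm i)
  have hsum : ∑ i, μ i = (Fintype.card ι : ℂ) -
      2 * ((Finset.univ.filter fun i => μ i = -1).card : ℂ) := by
    calc ∑ i, μ i = ∑ i, ((1 : ℂ) - if μ i = -1 then 2 else 0) := by
          refine Finset.sum_congr rfl fun i _ => ?_
          rcases hsq i with h | h <;> norm_num [h]
      _ = _ := by
          rw [Finset.sum_sub_distrib, ← Finset.sum_filter, Finset.sum_const, Finset.sum_const,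
            Finset.card_univ, nsmul_eq_mul, nsmul_eq_mul, mul_one, mul_comm]
  rw [hsum, ← h0] at h1
  have h2 : s = (charDegree (χ : G → ℂ) : ℤ) -
      2 * ((Finset.univ.filter fun i => μ i = -1).card : ℤ) := by exact_mod_cast h1
  rw [Nat.odd_iff]
  omega

/-- A nonprincipal character of a perfect group has degree at least two. -/
theorem charDegree_ne_one (hperf : commutator G = ⊤) (χ : IrrCharacter G)
    (hne : (χ : G → ℂ) ≠ fun _ => 1) : charDegree (χ : G → ℂ) ≠ 1 := by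
  intro h
  refine hne (funext fun g => Chars.eq_one_of_mem_commutator χ ?_ (hperf ▸ Subgroup.mem_top g))
  rw [← (deg_spec χ).1, h, Nat.cast_one]

namespace Conf

variable {P : Sylow 2 G} {w x : G} (c : Conf P w x)
include c

theorem oc_w : oc w = ⊥ := by
  rw [eq_bot_iff]
  intro z hz
  refine Subgroup.mem_bot.2 (c.dih.eq_one_of_mem (KleinOrder.odd_card_O w) (c.dih.rot_le ?_) hz)
  exact c.self z (mem_centralizer_singleton_iff.1 (KleinOrder.O_le w hz))

theorem wx_order : orderOf (w * x) = 2 := by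
  refine orderOf_eq_prime (by rw [pow_two, c.dih.στ_sq]) fun h => c.dih.τ_notMem ?_
  rw [eq_inv_of_mul_eq_one_right h]
  exact inv_mem (mem_zpowers w)

theorem hconj : IsConj (w ^ 2) x ∧ IsConj (w ^ 2) (w * x) :=
  ⟨c.one x c.x_order, c.one _ c.wx_order⟩

/-- The pairs of involutions with product `w`. -/
theorem card_pairs_w : Nat.card {p : G × G // orderOf p.1 = 2 ∧ orderOf p.2 = 2 ∧
    w⁻¹ * (p.1 * p.2) ∈ oc w} = 4 := by
  have hodd : Odd (Nat.card (oc w)) := KleinOrder.odd_card_O w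
  have hn := c.dih.P_norm (mem_zpowers w) c.dih.σ_ne
  have h := c.dih.card_section 1 (by rw [pow_one]; exact c.dih.σ_ne)
  have h' := c.dih.card_pairs_odd hodd hn (l := 1) (by decide)
  rw [pow_one] at h h'
  rw [h, h']
  have h1 := c.dih.card_refl hodd hn x c.dih.τ_mem c.xx
  have h2 := c.dih.card_refl hodd hn (w * x) (mul_mem c.dih.σ_mem c.dih.τ_mem) c.dih.στ_sq
  simp only [c.oc_w, bot_inf_eq, Subgroup.card_bot, mul_one] at h1 h2 ⊢
  rw [h1, h2]

/-- The two equations of the principal block. -/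
theorem block_equations (hperf : commutator G = ⊤) :
    ∃ (f : ℕ) (δ u v : ℤ), (δ = 1 ∨ δ = -1) ∧ Odd f ∧ 3 ≤ f ∧ 3 ≤ |u| ∧ 3 ≤ |v| ∧
      u + v = -(1 + δ * (f : ℤ)) ∧
      (Nat.card G : ℤ) * ((f : ℤ) - δ) ^ 2 = 64 * f * (f + δ) *
        ((Nat.card (fixPart w x) : ℤ) * Nat.card (fixPart w (x * w)) *
          ((Nat.card (fixPart w x) : ℤ) + Nat.card (fixPart w (x * w))) ^ 2) ∧
      (Nat.card G : ℚ) * (1 + (δ : ℚ) / f + 1 / (u : ℚ) + 1 / (v : ℚ)) =
        256 * ((Nat.card (fixPart w x) : ℚ) * Nat.card (fixPart w (x * w))) ^ 2 := by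
  classical
  obtain ⟨M, hM⟩ := CharCount.exists_isPModular 2 Nat.prime_two
  have : M.IsPrime := hM.2.1.isPrime
  cases nonempty_fintype G
  have hζ : IsPrimitiveRoot Complex.I (2 * 2) := Complex.isPrimitiveRoot_I
  obtain ⟨χ₁, χ₂, χ₃, e, δ₁, δ₂, δ₃, hT⟩ := c.dih.exists_table hM hζ
  have h1I : 1 ∈ Finset.Ioo 0 (2 * 2) := by decide
  have h2I : 2 ∈ Finset.Ioo 0 (2 * 2) := by decide
  have hv1t : (χ₁ : G → ℂ) (w ^ 2) = (δ₁ : ℂ) := hT.val₁ 2 h2I
  have hv2t : (χ₂ : G → ℂ) (w ^ 2) = -(δ₂ : ℂ) := by rw [hT.val₂ 2 h2I]; ring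
  have hv3t : (χ₃ : G → ℂ) (w ^ 2) = -(δ₃ : ℂ) := by rw [hT.val₃ 2 h2I]; ring
  have hv1w : (χ₁ : G → ℂ) w = (δ₁ : ℂ) := by
    simpa using hT.val₁ 1 h1I
  have hv2w : (χ₂ : G → ℂ) w = (δ₂ : ℂ) := by
    simpa using hT.val₂ 1 h1I
  have hv3w : (χ₃ : G → ℂ) w = (δ₃ : ℂ) := by
    simpa using hT.val₃ 1 h1I
  have hew : (e 1 : G → ℂ) w = 0 := by
    have h := hT.valE 1 (by simp) 1 h1I
    rw [pow_one, mul_one, pow_one, Complex.inv_I, add_neg_cancel, mul_zero] at h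
    exact h
  set f₁ := charDegree (χ₁ : G → ℂ) with hf1
  set f₂ := charDegree (χ₂ : G → ℂ) with hf2
  set f₃ := charDegree (χ₃ : G → ℂ) with hf3
  have ho1 : Odd f₁ := odd_charDegree χ₁ c.t_order δ₁ hT.sign₁ hv1t
  have ho2 : Odd f₂ := odd_charDegree χ₂ c.t_order (-δ₂)
    (by rcases hT.sign₂ with h | h <;> simp [h]) (by push_cast; exact hv2t)
  have ho3 : Odd f₃ := odd_charDegree χ₃ c.t_order (-δ₃)
    (by rcases hT.sign₃ with h | h <;> simp [h]) (by push_cast; exact hv3t)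
  have hn1 : f₁ ≠ 1 := charDegree_ne_one hperf χ₁ hT.ne₁
  have hn2 : f₂ ≠ 1 := charDegree_ne_one hperf χ₂ hT.ne₂
  have hn3 : f₃ ≠ 1 := charDegree_ne_one hperf χ₃ hT.ne₃
  rw [Nat.odd_iff] at ho1 ho2 ho3
  refine ⟨f₁, δ₁, δ₂ * f₂, δ₃ * f₃, hT.sign₁, Nat.odd_iff.2 ho1, by omega, ?_, ?_, ?_, ?_, ?_⟩
  · rcases hT.sign₂ with h | h <;> rw [h] <;> simp only [one_mul, neg_mul, abs_neg, Nat.abs_cast] <;>
      omega
  · rcases hT.sign₃ with h | h <;> rw [h] <;> simp only [one_mul, neg_mul, abs_neg, Nat.abs_cast] <;>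
      omega
  · have h := hT.reg 1 (by simp)
    rw [← (deg_spec χ₁).1, ← (deg_spec χ₂).1, ← (deg_spec χ₃).1] at h
    have h' : 1 + δ₁ * (f₁ : ℤ) = -δ₂ * (f₂ : ℤ) - δ₃ * (f₃ : ℤ) := by exact_mod_cast h
    linarith
  · have h := (c.dih.main_formula hM c.hconj χ₁ (by rw [hT.block]; exact Or.inr (Or.inl rfl)) hT.ne₁
      δ₁ hT.sign₁ (fun l h1 h2 => hT.val₁ l (Finset.mem_Ioo.2 ⟨h1, h2⟩))).2
    rw [c.card_C, c.card_pair, c.centralizer_pair_swap, c.swap.card_pair] at h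
    have ha : (Nat.card (fixPart w x) : ℚ) ≠ 0 := Nat.cast_ne_zero.2 Nat.card_pos.ne'
    have hb : (Nat.card (fixPart w (x * w)) : ℚ) ≠ 0 := Nat.cast_ne_zero.2 Nat.card_pos.ne'
    rw [← hf1] at h
    push_cast at h
    field_simp at h
    have key : (Nat.card G : ℚ) * ((f₁ : ℚ) - δ₁) ^ 2 = 64 * f₁ * (f₁ + δ₁) *
        ((Nat.card (fixPart w x) : ℚ) * Nat.card (fixPart w (x * w)) *
          ((Nat.card (fixPart w x) : ℚ) + Nat.card (fixPart w (x * w))) ^ 2) := by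
      linear_combination (1 / 16 : ℚ) * h
    exact_mod_cast key
  · have h := c.dih.count_formula hM (fun a ha => c.one a ha) (mem_zpowers w) c.dih.σ_ne
    rw [c.card_pairs_w, c.card_C, c.oc_w, Subgroup.card_bot] at h
    let triv : IrrCharacter G := ⟨fun _ => 1, Chars.isIrrCharacter_one⟩
    have hset : (principalBlock M G).toFinset = {triv, χ₁, χ₂, χ₃, e 1} := by
      ext χ
      rw [Set.mem_toFinset, hT.block]
      simp only [Finset.mem_insert, Finset.mem_singleton]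
      show ((χ : G → ℂ) = (fun _ => 1) ∨ _) ↔ _
      constructor
      · rintro (h | h | h | h | ⟨i, hi, h⟩)
        · exact Or.inl (Subtype.ext h)
        · exact Or.inr (Or.inl h)
        · exact Or.inr (Or.inr (Or.inl h))
        · exact Or.inr (Or.inr (Or.inr (Or.inl h)))
        · obtain rfl : i = 1 := by simp at hi; omega
          exact Or.inr (Or.inr (Or.inr (Or.inr h)))
      · rintro (h | h | h | h | h)
        exacts [Or.inl (congrArg Subtype.val h), Or.inr (Or.inl h), Or.inr (Or.inr (Or.inl h)),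
          Or.inr (Or.inr (Or.inr (Or.inl h))), Or.inr (Or.inr (Or.inr (Or.inr ⟨1, by simp, h⟩)))]
    obtain ⟨he1, he2, he3, he4⟩ := hT.e_ne 1 (by simp)
    have hd1 : triv ≠ χ₁ := fun h => hT.ne₁ (h ▸ rfl)
    have hd2 : triv ≠ χ₂ := fun h => hT.ne₂ (h ▸ rfl)
    have hd3 : triv ≠ χ₃ := fun h => hT.ne₃ (h ▸ rfl)
    have hd4 : triv ≠ e 1 := fun h => he4 (h ▸ rfl)
    rw [finsum_mem_eq_toFinset_sum, hset,
      Finset.sum_insert (by simp [hd1, hd2, hd3, hd4]),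
      Finset.sum_insert (by simp [hT.ne₁₂, hT.ne₁₃, he1.symm]),
      Finset.sum_insert (by simp [hT.ne₂₃, he2.symm]),
      Finset.sum_pair he3.symm] at h
    simp only [triv, hv1t, hv2t, hv3t, hv1w, hv2w, hv3w, hew, ← (deg_spec χ₁).1,
      ← (deg_spec χ₂).1, ← (deg_spec χ₃).1, ← hf1, ← hf2, ← hf3] at h
    have hq : ((Nat.card G : ℚ) * (1 + (δ₁ : ℚ) ^ 2 * δ₁ / f₁ + (δ₂ : ℚ) ^ 2 * δ₂ / f₂ +
        (δ₃ : ℚ) ^ 2 * δ₃ / f₃) : ℚ) =
          256 * ((Nat.card (fixPart w x) : ℚ) * Nat.card (fixPart w (x * w))) ^ 2 := by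
      have h' : (((Nat.card G : ℚ) * (1 + (δ₁ : ℚ) ^ 2 * δ₁ / f₁ + (δ₂ : ℚ) ^ 2 * δ₂ / f₂ +
          (δ₃ : ℚ) ^ 2 * δ₃ / f₃) : ℚ) : ℂ) =
          ((256 * ((Nat.card (fixPart w x) : ℚ) * Nat.card (fixPart w (x * w))) ^ 2 : ℚ) : ℂ) := by
        push_cast at h ⊢
        linear_combination -h
      exact_mod_cast h'
    rw [← hq]
    congr 1
    rcases hT.sign₁ with g1 | g1 <;> rcases hT.sign₂ with g2 | g2 <;>
      rcases hT.sign₃ with g3 | g3 <;> rw [g1, g2, g3] <;> push_cast <;> ring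

end Conf

end Cfsg.Agent.Lib.CentFour74
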