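import Mathlib
import Cfsg.Agent.Lib.CoprimeOrder.Formula
import Cfsg.Agent.Lib.Involution.ThompsonTransfer

/-!
# General facts used in the local analysis
-/

set_option autoImplicit false
set_option linter.unusedSectionVars false

namespace Cfsg.Agent.Lib.CentFour74

open Subgroup
open Cfsg
open Cfsg.Agent.Lib

variable {G : Type*} [Group G] [Finite G]

/-- An element of odd order commutes with a four-group acting on an odd group: the order formula. -/
theorem four_card (K : Subgroup G) (hodd : Odd (Nat.card K)) {s u : G} (hs : s * s = 1)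
    (hu : u * u = 1) (hsu : s * u = u * s) (hs1 : s ≠ 1) (hu1 : u ≠ 1) (hne : s ≠ u)
    (hns : ∀ z ∈ K, s * z * s⁻¹ ∈ K) (hnu : ∀ z ∈ K, u * z * u⁻¹ ∈ K) :
    Nat.card ↥(K ⊓ centralizer ({s} : Set G)) * Nat.card ↥(K ⊓ centralizer ({u} : Set G)) *
        Nat.card ↥(K ⊓ centralizer ({s * u} : Set G)) =
      Nat.card ↥(K ⊓ centralizer ({s, u} : Set G)) ^ 2 * Nat.card K := by
  classical
  haveI : Fact (Nat.Prime 2) := ⟨Nat.prime_two⟩
  have hsi : s⁻¹ = s := inv_eq_of_mul_eq_one_right hs
  have hui : u⁻¹ = u := inv_eq_of_mul_eq_one_right hu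
  let A : Subgroup G :=
    { carrier := {g | g = 1 ∨ g = s ∨ g = u ∨ g = s * u}
      one_mem' := Or.inl rfl
      inv_mem' := by
        rintro g (rfl | rfl | rfl | rfl)
        · exact Or.inl inv_one
        · exact Or.inr (Or.inl hsi)
        · exact Or.inr (Or.inr (Or.inl hui))
        · exact Or.inr (Or.inr (Or.inr (by rw [_root_.mul_inv_rev, hsi, hui, hsu])))
      mul_mem' := by
        have h1 : u * (s * u) = s := by rw [hsu, ← mul_assoc, hu, one_mul]
        have h2 : s * (s * u) = u := by rw [← mul_assoc, hs, one_mul]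
        have h3 : s * u * s = u := by rw [hsu, mul_assoc, hs, mul_one]
        have h4 : s * u * u = s := by rw [mul_assoc, hu, mul_one]
        have h5 : s * u * (s * u) = 1 := by rw [← mul_assoc, h3, hu]
        rintro g h (rfl | rfl | rfl | rfl) (rfl | rfl | rfl | rfl) <;>
          simp only [Set.mem_setOf_eq, one_mul, mul_one, hs, hu, h1, h2, h3, h4, h5, ← hsu] <;>
          simp }
  have hmem : ∀ {g : G}, g ∈ A ↔ g = 1 ∨ g = s ∨ g = u ∨ g = s * u := Iff.rfl
  have hsA : s ∈ A := Or.inr (Or.inl rfl)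
  have huA : u ∈ A := Or.inr (Or.inr (Or.inl rfl))
  have hsu1 : s * u ≠ 1 := fun h => hne (by rw [← hsi, ← inv_eq_of_mul_eq_one_right h])
  have hsus : s * u ≠ s := fun h => hu1 (mul_eq_left.1 h)
  have hsuu : s * u ≠ u := fun h => hs1 (mul_eq_right.1 h)
  have hcard : Nat.card A = 4 := by
    have h : (A : Set G) = {1, s, u, s * u} := by ext g; simp [hmem]
    rw [← SetLike.coe_sort_coe, h, Nat.card_coe_set_eq,
      Set.ncard_insert_of_notMem (by simp [hs1.symm, hu1.symm, hsu1.symm]) (by simp),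
      Set.ncard_insert_of_notMem (by simp [hne, hsus.symm]) (by simp),
      Set.ncard_pair hsuu.symm]
  have hsq : ∀ g ∈ A, g * g = 1 := by
    intro g hg
    rcases hmem.1 hg with rfl | rfl | rfl | rfl
    · exact one_mul 1
    · exact hs
    · exact hu
    · rw [mul_assoc, ← mul_assoc u, ← hsu, mul_assoc s u u, hu, mul_one, hs]
  have hA : Cfsg.IsElementaryAbelian 2 A := by
    refine ⟨⟨⟨fun a b => Subtype.ext ?_⟩⟩, fun a ha => by rw [pow_two]; exact hsq a ha⟩
    have hai := inv_eq_of_mul_eq_one_right (hsq a a.2)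
    have hbi := inv_eq_of_mul_eq_one_right (hsq b b.2)
    have habi := inv_eq_of_mul_eq_one_right (hsq _ (mul_mem a.2 b.2))
    rw [_root_.mul_inv_rev, hai, hbi] at habi
    exact habi.symm
  have hnorm : A ≤ normalizer (K : Set G) := by
    intro g hg
    have key : ∀ z ∈ K, g * z * g⁻¹ ∈ K := by
      rcases hmem.1 hg with rfl | rfl | rfl | rfl
      · intro z hz; simpa using hz
      · exact hns
      · exact hnu
      · intro z hz
        rw [show s * u * z * (s * u)⁻¹ = s * (u * z * u⁻¹) * s⁻¹ by group]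
        exact hns _ (hnu z hz)
    have hgi : g⁻¹ = g := inv_eq_of_mul_eq_one_right (hsq g hg)
    refine mem_normalizer_iff.2 fun z => ⟨key z, fun h => ?_⟩
    have h' := key _ h
    rw [hgi] at h'
    rwa [show g * (g * z * g) * g = g * g * z * (g * g) by group, hsq g hg, one_mul, mul_one] at h'
  let ι := CoprimeOrder.Line 2 A
  haveI : Fintype ι := Fintype.ofFinite _
  have hz : ∀ g ∈ A, g ≠ 1 → zpowers g ≤ A ∧ Nat.card (zpowers g) = 2 := fun g hg h1 =>
    CoprimeOrder.zpowers_line hA hg h1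
  let L1 : ι := ⟨zpowers s, hz s hsA hs1⟩
  let L2 : ι := ⟨zpowers u, hz u huA hu1⟩
  let L3 : ι := ⟨zpowers (s * u), hz _ (mul_mem hsA huA) hsu1⟩
  have hinj : ∀ {p q : G}, q ≠ 1 → q * q = 1 → p * p = 1 → zpowers p = zpowers q → p = q := by
    intro p q hq hqq hpp h
    obtain ⟨i, hi⟩ := mem_zpowers_iff.1 (h ▸ mem_zpowers q)
    rcases Int.even_or_odd i with ⟨j, rfl⟩ | ⟨j, rfl⟩
    · rw [← two_mul, zpow_mul, zpow_two, hpp, one_zpow] at hi
      exact absurd hi.symm hq
    · rw [zpow_add, zpow_one, zpow_mul, zpow_two, hpp, one_zpow, one_mul] at hi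
      exact hi
  have h12 : L1 ≠ L2 := fun h => hne (hinj hu1 hu hs (congrArg Subtype.val h))
  have h13 : L1 ≠ L3 := fun h => hsus
    (hinj hsu1 (hsq _ (mul_mem hsA huA)) hs (congrArg Subtype.val h)).symm
  have h23 : L2 ≠ L3 := fun h => hsuu
    (hinj hsu1 (hsq _ (mul_mem hsA huA)) hu (congrArg Subtype.val h)).symm
  have huniv : (Finset.univ : Finset ι) = {L1, L2, L3} := by
    refine Finset.Subset.antisymm (fun L _ => ?_) (Finset.subset_univ _)
    obtain ⟨g, hg, hg1⟩ := (Subgroup.bot_or_exists_ne_one L.1).resolve_left fun hb => by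
      have := L.2.2
      rw [hb, Subgroup.card_bot] at this
      omega
    have hL := CoprimeOrder.line_eq_zpowers L.2.2 hg hg1
    rcases hmem.1 (L.2.1 hg) with rfl | rfl | rfl | rfl
    · exact absurd rfl hg1
    · exact Finset.mem_insert.2 (Or.inl (Subtype.ext hL))
    · exact Finset.mem_insert.2 (Or.inr (Finset.mem_insert.2 (Or.inl (Subtype.ext hL))))
    · exact Finset.mem_insert.2 (Or.inr (Finset.mem_insert.2 (Or.inr (Finset.mem_singleton.2 (Subtype.ext hL)))))
  have hn : Nat.card ι = 3 := by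
    rw [Nat.card_eq_fintype_card, ← Finset.card_univ, huniv,
      Finset.card_eq_three.2 ⟨L1, L2, L3, h12, h13, h23, rfl⟩]
  have hK : ¬ 2 ∣ Nat.card K := fun h => Nat.not_even_iff_odd.2 hodd (even_iff_two_dvd.2 h)
  have h := CoprimeOrder.prod_card hA (show 1 ≤ Nat.card ι by omega) hnorm hK
  rw [huniv, Finset.prod_insert (by simp [h12, h13]), Finset.prod_pair h23, hcard, hn] at h
  have hc : ∀ g : G, centralizer (zpowers g : Set G) = centralizer ({g} : Set G) := fun g => by
    rw [zpowers_eq_closure, centralizer_closure]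
  have hcA : centralizer (A : Set G) = centralizer ({s, u} : Set G) := by
    ext z
    simp only [mem_centralizer_iff, Set.mem_insert_iff, Set.mem_singleton_iff, forall_eq_or_imp,
      forall_eq]
    refine ⟨fun h => ⟨h s hsA, h u huA⟩, fun ⟨h1, h2⟩ g hg => ?_⟩
    rcases hmem.1 hg with rfl | rfl | rfl | rfl
    · simp
    · exact h1
    · exact h2
    · rw [mul_assoc, h2, ← mul_assoc, h1, mul_assoc]
  simp only [L1, L2, L3, hc, hcA] at h
  refine Nat.pow_left_injective two_ne_zero ?_
  simp only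
  rw [mul_pow, mul_pow, mul_assoc, h, mul_pow, ← pow_mul]

/-- A subgroup with a single other coset. -/
theorem card_eq_two_mul {C K : Subgroup G} (hKC : K ≤ C) {w : G} (hw : w ∈ C) (hwK : w ∉ K)
    (h : ∀ g ∈ C, g ∈ K ∨ w⁻¹ * g ∈ K) : Nat.card C = 2 * Nat.card K := by
  have e : K ⊕ K ≃ C := Equiv.ofBijective
    (Sum.elim (fun k => ⟨k, hKC k.2⟩) (fun k => ⟨w * k, mul_mem hw (hKC k.2)⟩)) ⟨?_, ?_⟩
  · rw [← Nat.card_congr e, Nat.card_sum, two_mul]
  · rintro (a | a) (b | b) hab <;> simp only [Sum.elim_inl, Sum.elim_inr, Subtype.mk.injEq] at hab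
    · exact congrArg Sum.inl (Subtype.ext hab)
    · exact absurd ((mul_mem_cancel_right b.2).1 (hab ▸ a.2)) hwK
    · exact absurd ((mul_mem_cancel_right a.2).1 (hab.symm ▸ b.2)) hwK
    · exact congrArg Sum.inr (Subtype.ext (mul_left_cancel hab))
  · rintro ⟨g, hg⟩
    rcases h g hg with hk | hk
    · exact ⟨Sum.inl ⟨g, hk⟩, rfl⟩
    · exact ⟨Sum.inr ⟨_, hk⟩, Subtype.ext (mul_inv_cancel_left w g)⟩

/-- Centralisers inside a subgroup. -/
theorem card_centralizer_subtype (K : Subgroup G) (s : Set K) :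
    Nat.card (centralizer s : Subgroup K) =
      Nat.card ↥(K ⊓ centralizer (((↑) : K → G) '' s)) := by
  refine Nat.card_congr
    { toFun := fun z => ⟨((z : K) : G), (z : K).2, mem_centralizer_iff.2 ?_⟩
      invFun := fun z => ⟨⟨(z : G), z.2.1⟩, mem_centralizer_iff.2 fun k hk =>
        Subtype.ext (mem_centralizer_iff.1 z.2.2 k ⟨k, hk, rfl⟩)⟩
      left_inv := fun _ => rfl
      right_inv := fun _ => rfl }
  rintro _ ⟨k, hk, rfl⟩
  exact congrArg Subtype.val (mem_centralizer_iff.1 z.2 k hk)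

/-- A group of twice odd order has a normal half containing every element of odd order. -/
theorem exists_half {H : Subgroup G} {m : ℕ} (hH : Nat.card H = 2 * m) (hm : Odd m) :
    ∃ K : Subgroup G, Nat.card K = m ∧ K ≤ H ∧ ∀ g ∈ H, g ∈ K ↔ Odd (orderOf g) := by
  haveI : Fact (Nat.Prime 2) := ⟨Nat.prime_two⟩
  obtain ⟨T⟩ := (inferInstance : Nonempty (Sylow 2 H))
  have h2 : ¬ 2 ∣ m := fun h => Nat.not_even_iff_odd.2 hm (even_iff_two_dvd.2 h)
  have hT : Nat.card (T : Subgroup H) = 2 := by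
    rw [T.card_eq_multiplicity, hH, Nat.factorization_mul two_ne_zero hm.pos.ne', Finsupp.add_apply,
      Nat.prime_two.factorization_self, Nat.factorization_eq_zero_of_not_dvd h2, add_zero, pow_one]
  obtain ⟨K, hKn, hKi⟩ := Involution.exists_index_two_of_isCyclic_sylow
    (G := H) (by rw [hH]; exact even_two_mul m) T (isCyclic_of_prime_card hT)
  have hcard : Nat.card K = m := by
    have h1 := K.card_mul_index
    rw [hKi, hH] at h1
    omega
  refine ⟨K.map H.subtype, by rw [card_map_of_injective H.subtype_injective, hcard],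
    map_subtype_le K, fun g hg => ⟨?_, fun ho => ⟨⟨g, hg⟩, ?_, rfl⟩⟩⟩
  · rintro ⟨k, hk, rfl⟩
    refine Odd.of_dvd_nat (hcard ▸ hm) ?_
    rw [H.subtype_apply, Subgroup.orderOf_coe]
    exact (Subgroup.orderOf_mk k hk).symm.dvd.trans (orderOf_dvd_natCard _)
  · obtain ⟨j, hj⟩ := ho
    have h3 : (⟨g, hg⟩ : H) * (⟨g, hg⟩ : H) ^ (2 * j) = 1 := by
      rw [← pow_succ', ← hj]
      exact Subtype.ext (pow_orderOf_eq_one g)
    have h4 : (⟨g, hg⟩ : H) ^ (2 * j) ∈ K := by
      rw [pow_mul]; exact K.pow_mem (Subgroup.sq_mem_of_index_two hKi _) j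
    rw [eq_inv_of_mul_eq_one_left h3]
    exact K.inv_mem h4

/-- A finite group of order greater than 24 without proper normal subgroups has no subgroup of
index less than 5. -/
theorem five_le_index_of_simple [IsSimpleGroup G] (hG : 24 < Nat.card G) {M : Subgroup G}
    (hM : M ≠ ⊤) : 5 ≤ M.index := by
  by_contra h
  rcases (Subgroup.normalCore_normal M).eq_bot_or_eq_top with hc | hc
  · have hinj : Function.Injective (MulAction.toPermHom G (G ⧸ M)) := by
      rw [← MonoidHom.ker_eq_bot_iff, ← Subgroup.normalCore_eq_ker, hc]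
    have hd := Subgroup.card_dvd_of_injective _ hinj
    rw [Nat.card_perm, ← Subgroup.index] at hd
    have : Nat.factorial M.index ≤ Nat.factorial 4 := Nat.factorial_le (by omega)
    have := Nat.le_of_dvd (Nat.factorial_pos _) hd
    simp only [Nat.factorial, Nat.succ_eq_add_one] at *
    omega
  · exact hM (top_le_iff.1 (hc ▸ M.normalCore_le))

end Cfsg.Agent.Lib.CentFour74
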