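import Cfsg.Agent.Lib.CentFour74.Basic
import Cfsg.Agent.Lib.CentFour74.Four
import Cfsg.Agent.Lib.SECount.DihedralFusion

/-!
# Odd parts of the involution centralisers, and the fusion in the two four-groups
-/

set_option autoImplicit false
set_option linter.unusedSectionVars false

namespace Cfsg.Agent.Lib.CentFour74

open Subgroup
open Cfsg
open Cfsg.Agent.Lib Cfsg.Agent.Lib.DihedralBlock

variable {G : Type*} [Group G] [Finite G]

/-- The subgroup generated by the elements of odd order commuting with `v`. -/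
noncomputable def oddSub (v : G) : Subgroup G :=
  closure {z : G | z * v = v * z ∧ Odd (orderOf z)}

theorem orderOf_conjugate (g z : G) : orderOf (g * z * g⁻¹) = orderOf z :=
  MulEquiv.orderOf_eq (MulAut.conj g) z

namespace Conf

variable {P : Sylow 2 G} {w x : G} (c : Conf P w x)
include c

theorem mem_core_iff {z : G} : z ∈ core w ↔ z * w ^ 2 = w ^ 2 * z ∧ Odd (orderOf z) :=
  ⟨fun h => ⟨c.comm_t h, c.odd_order h⟩, fun h => c.mem_core_of_odd h.1 h.2⟩

theorem exists_conj_t {v : G} (hv : orderOf v = 2) : ∃ g : G, g * w ^ 2 * g⁻¹ = v :=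
  isConj_iff.1 (c.one v hv)

theorem oddSub_eq {g v : G} (hg : g * w ^ 2 * g⁻¹ = v) :
    oddSub v = (core w).map (MulAut.conj g).toMonoidHom := by
  have key : ∀ z : G, (z * v = v * z ∧ Odd (orderOf z)) ↔
      z ∈ (core w).map (MulAut.conj g).toMonoidHom := by
    intro z
    rw [mem_map_equiv, MulAut.conj_symm_apply, c.mem_core_iff]
    refine and_congr ?_ ?_
    · rw [← hg]
      constructor
      · intro h
        calc g⁻¹ * z * g * w ^ 2 = g⁻¹ * (z * (g * w ^ 2 * g⁻¹)) * g := by group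
          _ = w ^ 2 * (g⁻¹ * z * g) := by rw [h]; group
      · intro h
        calc z * (g * w ^ 2 * g⁻¹) = g * (g⁻¹ * z * g * w ^ 2) * g⁻¹ := by group
          _ = g * w ^ 2 * g⁻¹ * z := by rw [h]; group
    · rw [show orderOf (g⁻¹ * z * g) = orderOf z by
        simpa using orderOf_conjugate g⁻¹ z]
  refine le_antisymm ((closure_le _).2 fun z hz => (key z).1 hz) fun z hz => ?_
  exact subset_closure ((key z).2 hz)

theorem oddSub_t : oddSub (w ^ 2) = core w := by
  rw [c.oddSub_eq (g := 1) (by group)]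
  ext z
  simp

theorem mem_oddSub {v : G} (hv : orderOf v = 2) {z : G} :
    z ∈ oddSub v ↔ z * v = v * z ∧ Odd (orderOf z) := by
  obtain ⟨g, hg⟩ := c.exists_conj_t hv
  refine ⟨fun h => ?_, fun h => subset_closure h⟩
  rw [c.oddSub_eq hg, mem_map] at h
  obtain ⟨u, hu, rfl⟩ := h
  rw [c.mem_core_iff] at hu
  rw [← hg]
  refine ⟨?_, by
    show Odd (orderOf (g * u * g⁻¹))
    rw [orderOf_conjugate]
    exact hu.2⟩
  show g * u * g⁻¹ * (g * w ^ 2 * g⁻¹) = g * w ^ 2 * g⁻¹ * (g * u * g⁻¹)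
  calc g * u * g⁻¹ * (g * w ^ 2 * g⁻¹) = g * (u * w ^ 2) * g⁻¹ := by group
    _ = g * w ^ 2 * g⁻¹ * (g * u * g⁻¹) := by rw [hu.1]; group

theorem card_oddSub {v : G} (hv : orderOf v = 2) :
    Nat.card (oddSub v) = Nat.card (fixPart w x) * Nat.card (fixPart w (x * w)) := by
  obtain ⟨g, hg⟩ := c.exists_conj_t hv
  rw [c.oddSub_eq hg, card_map_of_injective (MulAut.conj g).injective, c.card_core]

theorem odd_oddSub {v : G} (hv : orderOf v = 2) : Odd (Nat.card (oddSub v)) := by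
  rw [c.card_oddSub hv, ← c.card_core]
  exact c.odd_core

theorem comm_oddSub {v : G} (hv : orderOf v = 2) {p q : G} (hp : p ∈ oddSub v)
    (hq : q ∈ oddSub v) : p * q = q * p := by
  obtain ⟨g, hg⟩ := c.exists_conj_t hv
  rw [c.oddSub_eq hg, mem_map] at hp hq
  obtain ⟨p', hp', rfl⟩ := hp
  obtain ⟨q', hq', rfl⟩ := hq
  rw [← map_mul, ← map_mul, c.comm_core hp' hq']

theorem conj_mem_oddSub {v g z : G} (hv : orderOf v = 2) (hz : z ∈ oddSub v) :
    g * z * g⁻¹ ∈ oddSub (g * v * g⁻¹) := by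
  rw [c.mem_oddSub hv] at hz
  rw [c.mem_oddSub (by rw [orderOf_conjugate, hv]), orderOf_conjugate]
  refine ⟨?_, hz.2⟩
  calc g * z * g⁻¹ * (g * v * g⁻¹) = g * (z * v) * g⁻¹ := by group
    _ = g * v * g⁻¹ * (g * z * g⁻¹) := by rw [hz.1]; group

theorem xt_sq : x * w ^ 2 * (x * w ^ 2) = 1 := by
  rw [mul_assoc, ← mul_assoc (w ^ 2), ← c.x_comm_t, mul_assoc x, c.tt, mul_one, c.xx]

theorem xt_ne : x * w ^ 2 ≠ 1 := fun h => c.x_ne_t (by
  rw [eq_inv_of_mul_eq_one_left h, inv_eq_of_mul_eq_one_right c.tt])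

theorem xt_order : orderOf (x * w ^ 2) = 2 :=
  orderOf_eq_prime (by rw [pow_two, c.xt_sq]) c.xt_ne

theorem xt_ne_t : x * w ^ 2 ≠ w ^ 2 := fun h => c.x_ne (mul_eq_right.1 h)

theorem xt_ne_x : x * w ^ 2 ≠ x := fun h => c.t_ne (mul_eq_left.1 h)

theorem w_inv : w⁻¹ = w ^ 3 := inv_eq_of_mul_eq_one_right (by rw [← pow_succ', c.w_four])

theorem wxw : w * x * w⁻¹ = x * w ^ 2 := by
  have h : w * x = x * w⁻¹ := by
    rw [← c.dih.rel, ← mul_assoc, ← mul_assoc, c.xx, one_mul]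
  rw [h, mul_assoc, c.w_inv, ← pow_add, show 3 + 3 = 4 + 2 from rfl, pow_add, c.w_four, one_mul]

theorem wxtw : w * (x * w ^ 2) * w⁻¹ = x := by
  calc w * (x * w ^ 2) * w⁻¹ = w * x * w⁻¹ * w ^ 2 := by group
    _ = x := by rw [c.wxw, mul_assoc, c.tt, mul_one]

/-- An element normalising the four-group and moving `t` to `x`. -/
theorem exists_fusion (hperf : commutator G = ⊤) : ∃ g : G, g * w ^ 2 * g⁻¹ = x ∧
    (g * x * g⁻¹ = w ^ 2 ∨ g * x * g⁻¹ = x * w ^ 2) ∧
    (g * (x * w ^ 2) * g⁻¹ = w ^ 2 ∨ g * (x * w ^ 2) * g⁻¹ = x * w ^ 2) := by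
  classical
  obtain ⟨eS⟩ := c.iso
  let V : Subgroup G :=
    { carrier := {g | g = 1 ∨ g = w ^ 2 ∨ g = x ∨ g = x * w ^ 2}
      one_mem' := Or.inl rfl
      inv_mem' := by
        rintro g (rfl | rfl | rfl | rfl)
        · exact Or.inl inv_one
        · exact Or.inr (Or.inl (inv_eq_of_mul_eq_one_right c.tt))
        · exact Or.inr (Or.inr (Or.inl c.x_inv))
        · exact Or.inr (Or.inr (Or.inr (inv_eq_of_mul_eq_one_right c.xt_sq)))
      mul_mem' := by
        have hc := c.x_comm_t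
        have h1 : w ^ 2 * (x * w ^ 2) = x := by
          rw [← mul_assoc, ← hc, mul_assoc, c.tt, mul_one]
        have h2 : x * (x * w ^ 2) = w ^ 2 := by rw [← mul_assoc, c.xx, one_mul]
        have h3 : x * w ^ 2 * w ^ 2 = x := by rw [mul_assoc, c.tt, mul_one]
        have h4 : x * w ^ 2 * x = w ^ 2 := by rw [hc, mul_assoc, c.xx, mul_one]
        rintro g h (rfl | rfl | rfl | rfl) (rfl | rfl | rfl | rfl) <;>
          simp only [Set.mem_setOf_eq, one_mul, mul_one, c.tt, c.xx, c.xt_sq, h1, h2, h3, h4,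
            ← hc] <;>
          simp }
  have hmem : ∀ {g : G}, g ∈ V ↔ g = 1 ∨ g = w ^ 2 ∨ g = x ∨ g = x * w ^ 2 := Iff.rfl
  have hVP : V ≤ (P : Subgroup G) := by
    intro g hg
    rcases hmem.1 hg with rfl | rfl | rfl | rfl
    · exact one_mem _
    · exact pow_mem c.dih.σ_mem 2
    · exact c.dih.τ_mem
    · exact mul_mem c.dih.τ_mem (pow_mem c.dih.σ_mem 2)
  have hcard : Nat.card V = 4 := by
    have h : (V : Set G) = {1, w ^ 2, x, x * w ^ 2} := by ext g; simp [hmem]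
    rw [← SetLike.coe_sort_coe, h, Nat.card_coe_set_eq,
      Set.ncard_insert_of_notMem (by simp [c.t_ne.symm, c.x_ne.symm, c.xt_ne.symm]) (by simp),
      Set.ncard_insert_of_notMem (by simp [c.x_ne_t.symm, c.xt_ne_t.symm]) (by simp),
      Set.ncard_pair c.xt_ne_x.symm]
  have hsq : ∀ a : V, a * a = 1 := by
    rintro ⟨g, hg⟩
    refine Subtype.ext ?_
    show g * g = 1
    rcases hmem.1 hg with rfl | rfl | rfl | rfl
    exacts [one_mul 1, c.tt, c.xx, c.xt_sq]
  haveI : Nontrivial V := by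
    rw [← Finite.one_lt_card_iff_nontrivial, hcard]; norm_num
  have hV : IsKleinFour V := by
    refine ⟨hcard, ?_⟩
    refine (Nat.dvd_prime Nat.prime_two).1 (Monoid.exponent_dvd_of_forall_pow_eq_one fun a => ?_)
      |>.resolve_left ?_
    · rw [pow_two]; exact hsq a
    · exact fun h => one_ne_zero (α := ℕ) (by
        have := Monoid.exp_eq_one_iff.1 h
        exact absurd this (not_subsingleton V))
  obtain ⟨i, hi⟩ := SECount.exists_eq_fourS P eS (by norm_num) V hV hVP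
  haveI := hV
  by_cases h3 : 3 ∣ (centralizer (SECount.fourS P eS i : Set G)).relIndex
      (normalizer (SECount.fourS P eS i : Set G))
  swap
  · obtain ⟨M, hM⟩ := SECount.exists_index_two_of_not_three_dvd P eS (by norm_num) i h3
    haveI := Subgroup.normal_of_index_eq_two hM
    have hcomm : commutator G ≤ M := by
      refine Subgroup.Normal.quotient_commutative_iff_commutator_le.1 ?_
      haveI : Fact (Nat.Prime 2) := ⟨Nat.prime_two⟩
      haveI : IsCyclic (G ⧸ M) := isCyclic_of_prime_card (p := 2) (by rw [← Subgroup.index, hM])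
      letI : CommGroup (G ⧸ M) := IsCyclic.commGroup
      exact ⟨⟨fun a b => mul_comm a b⟩⟩
    rw [hperf, top_le_iff] at hcomm
    rw [hcomm, index_top] at hM
    omega
  rw [← hi] at h3
  obtain ⟨g, hgN, hg⟩ := SECount.exists_conj_of_three_dvd V h3 (Or.inr (Or.inl rfl))
    (Or.inr (Or.inr (Or.inl rfl))) c.t_ne c.x_ne
  have himg : ∀ u : G, u ∈ V → u ≠ 1 → u ≠ w ^ 2 →
      g * u * g⁻¹ = w ^ 2 ∨ g * u * g⁻¹ = x * w ^ 2 := by
    intro u hu h1 ht
    rcases hmem.1 ((mem_normalizer_iff.1 hgN u).1 hu) with h | h | h | h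
    · exact absurd (conj_eq_one_iff.1 h) h1
    · exact Or.inl h
    · exact absurd (mul_left_cancel (mul_right_cancel (h.trans hg.symm))) ht
    · exact Or.inr h
  exact ⟨g, hg, himg x (Or.inr (Or.inr (Or.inl rfl))) c.x_ne c.x_ne_t,
    himg _ (Or.inr (Or.inr (Or.inr rfl))) c.xt_ne c.xt_ne_t⟩

/-- An element centralising `fixPart w x` and permuting the three involutions cyclically. -/
theorem exists_cycle (hperf : commutator G = ⊤) : ∃ h : G,
    (∀ z ∈ fixPart w x, h * z = z * h) ∧ h * w ^ 2 * h⁻¹ = x * w ^ 2 ∧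
      h * (x * w ^ 2) * h⁻¹ = x ∧ h * x * h⁻¹ = w ^ 2 := by
  obtain ⟨g, hg, hgx, hgxt⟩ := c.exists_fusion hperf
  have hne : g * x * g⁻¹ ≠ g * (x * w ^ 2) * g⁻¹ := fun h =>
    c.xt_ne_x (mul_left_cancel (mul_right_cancel h)).symm
  have htw : w⁻¹ * w ^ 2 * w = w ^ 2 := by group
  have hxw : w⁻¹ * x * w = x * w ^ 2 := by
    nth_rewrite 1 [← c.wxtw]; group
  have hxtw : w⁻¹ * (x * w ^ 2) * w = x := by
    rw [← c.wxw]; group
  -- `k` fixes `fixPart w x`
  have hstab : ∀ z ∈ fixPart w x, g⁻¹ * z * g ∈ fixPart w x := by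
    intro z hz
    have hzx : z * x = x * z := mem_centralizer_singleton_iff.1 hz.2
    have hzt : z * w ^ 2 = w ^ 2 * z := c.comm_t hz.1
    have hzxt : z * (x * w ^ 2) = x * w ^ 2 * z := by
      rw [← mul_assoc, hzx, mul_assoc, hzt, mul_assoc]
    have key : ∀ u : G, z * (g * u * g⁻¹) = g * u * g⁻¹ * z →
        g⁻¹ * z * g * u = u * (g⁻¹ * z * g) := fun u hu => by
      calc g⁻¹ * z * g * u = g⁻¹ * (z * (g * u * g⁻¹)) * g := by group
        _ = u * (g⁻¹ * z * g) := by rw [hu]; group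
    refine ⟨c.mem_core_of_odd (key _ (by rw [hg]; exact hzx)) ?_,
      mem_centralizer_singleton_iff.2 (key _ ?_)⟩
    · rw [show orderOf (g⁻¹ * z * g) = orderOf z by simpa using orderOf_conjugate g⁻¹ z]
      exact c.odd_order hz.1
    · rcases hgx with h | h <;> rw [h]
      exacts [hzt, hzxt]
  refine ⟨g * w * g⁻¹ * w⁻¹, fun z hz => ?_, ?_⟩
  · have h1 : w⁻¹ * z * w = z⁻¹ := by
      have h := c.inv_w (inv_mem hz.1)
      rw [inv_inv] at h
      conv_lhs => rw [← h]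
      group
    have h2 : w * (g⁻¹ * z⁻¹ * g) * w⁻¹ = g⁻¹ * z * g := by
      rw [c.inv_w (hstab _ (inv_mem hz)).1]; group
    rw [← mul_inv_eq_iff_eq_mul]
    calc g * w * g⁻¹ * w⁻¹ * z * (g * w * g⁻¹ * w⁻¹)⁻¹
        = g * (w * (g⁻¹ * (w⁻¹ * z * w) * g) * w⁻¹) * g⁻¹ := by group
      _ = z := by rw [h1, h2]; group
  have hconj : ∀ u : G, g * w * g⁻¹ * w⁻¹ * u * (g * w * g⁻¹ * w⁻¹)⁻¹ =
      g * (w * (g⁻¹ * (w⁻¹ * u * w) * g) * w⁻¹) * g⁻¹ := fun u => by group
  have hgi : g⁻¹ * x * g = w ^ 2 := by rw [← hg]; group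
  have htw' : w * w ^ 2 * w⁻¹ = w ^ 2 := by group
  rcases hgx with h | h
  · have h' : g * (x * w ^ 2) * g⁻¹ = x * w ^ 2 := hgxt.resolve_left fun h' => hne (h.trans h'.symm)
    have i1 : g⁻¹ * w ^ 2 * g = x := by rw [← h]; group
    have i2 : g⁻¹ * (x * w ^ 2) * g = x * w ^ 2 := by nth_rewrite 1 [← h']; group
    refine ⟨?_, ?_, ?_⟩
    · rw [hconj, htw, i1, c.wxw, h']
    · rw [hconj, hxtw, hgi, htw', hg]
    · rw [hconj, hxw, i2, c.wxtw, h]
  · have h' : g * (x * w ^ 2) * g⁻¹ = w ^ 2 := hgxt.resolve_right fun h' => hne (h.trans h'.symm)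
    have i1 : g⁻¹ * w ^ 2 * g = x * w ^ 2 := by nth_rewrite 1 [← h']; group
    have i2 : g⁻¹ * (x * w ^ 2) * g = x := by rw [← h]; group
    refine ⟨?_, ?_, ?_⟩
    · rw [hconj, htw, i1, c.wxtw, h]
    · rw [hconj, hxtw, hgi, htw', hg]
    · rw [hconj, hxw, i2, c.wxw, h']

/-- The four involutions of `P` other than `t` are reflections. -/
theorem involution_of_P {p : G} (hp : p ∈ (P : Subgroup G)) (h2 : p * p = 1) :
    p = 1 ∨ p = w ^ 2 ∨ p = x ∨ p = x * w ^ 2 ∨ p = x * w ∨ p = x * w * w ^ 2 := by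
  rcases c.dih.decomp p hp with h | h
  · rcases (c.dih.sq_eq_one_iff h).1 h2 with h | h
    · exact Or.inl h
    · exact Or.inr (Or.inl h)
  · obtain ⟨k, hk⟩ := (mem_powers_iff_mem_zpowers (x := w)).2 h
    simp only at hk
    rw [c.dih.pow_mod_rot k] at hk
    have h' : p = x * w ^ (k % (2 * 2)) := by rw [hk, ← mul_assoc, c.xx, one_mul]
    have hlt := Nat.mod_lt k (show 0 < 2 * 2 by norm_num)
    rw [h']
    interval_cases (k % (2 * 2))
    · simp
    · simp
    · simp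
    · right; right; right; right; right
      rw [mul_assoc x w, ← pow_succ']

end Conf

end Cfsg.Agent.Lib.CentFour74
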