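import Cfsg.Agent.Lib.CentFour74.Fusion
import Cfsg.Agent.S0213
import Cfsg.Agent.S0948
import Cfsg.Agent.S4479
import Cfsg.Agent.Lib.CharCount.Basic

/-!
# The centraliser of an element of `fixPart w x`

For `1 ≠ a₀ ∈ fixPart w x` the order of `C(a₀)` is `4abn(2b+n)`, where `n` is the number of
involutions in a coset; the principal 2-block of `C(a₀)` and a four-group acting on a subgroup of
odd order give `n = b`, and `n` divides `a`.
-/

set_option autoImplicit false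
set_option linter.unusedSectionVars false

namespace Cfsg.Agent.Lib.CentFour74

open Subgroup
open Cfsg
open Cfsg.Agent.Lib Cfsg.Agent.Lib.DihedralBlock

variable {G : Type*} [Group G] [Finite G]

/-- The elements mapping `a` to itself or to its inverse. -/
def signCent (a : G) : Subgroup G where
  carrier := {g | g * a * g⁻¹ = a ∨ g * a * g⁻¹ = a⁻¹}
  one_mem' := Or.inl (by group)
  mul_mem' := by
    intro g h hg hh
    have e : g * h * a * (g * h)⁻¹ = g * (h * a * h⁻¹) * g⁻¹ := by group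
    have hi : g * a⁻¹ * g⁻¹ = (g * a * g⁻¹)⁻¹ := by group
    simp only [Set.mem_setOf_eq, e]
    rcases hh with hh | hh <;> rw [hh]
    · exact hg
    · rw [hi]
      rcases hg with hg | hg <;> rw [hg]
      · exact Or.inr rfl
      · exact Or.inl (inv_inv a)
  inv_mem' := by
    intro g hg
    simp only [Set.mem_setOf_eq, inv_inv]
    rcases hg with hg | hg
    · refine Or.inl ?_
      nth_rewrite 1 [← hg]
      group
    · refine Or.inr ?_
      have h : a = g⁻¹ * a⁻¹ * g := by rw [← hg]; group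
      nth_rewrite 2 [h]
      group

theorem mem_signCent {a g : G} :
    g ∈ signCent a ↔ g * a * g⁻¹ = a ∨ g * a * g⁻¹ = a⁻¹ := Iff.rfl

theorem mem_cent_iff {a g : G} : g ∈ centralizer ({a} : Set G) ↔ g * a * g⁻¹ = a := by
  rw [mem_centralizer_singleton_iff, mul_inv_eq_iff_eq_mul]

theorem cent_le_signCent (a : G) : centralizer ({a} : Set G) ≤ signCent a :=
  fun _ hg => Or.inl (mem_cent_iff.1 hg)

theorem sq_mem_cent {a g : G} (hg : g ∈ signCent a) : g * g ∈ centralizer ({a} : Set G) := by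
  rw [mem_cent_iff, show g * g * a * (g * g)⁻¹ = g * (g * a * g⁻¹) * g⁻¹ by group]
  rcases hg with h | h <;> rw [h]
  · exact h
  · rw [show g * a⁻¹ * g⁻¹ = (g * a * g⁻¹)⁻¹ by group, h, inv_inv]

theorem conj_mem_cent {a g u : G} (hg : g ∈ signCent a) (hu : u ∈ centralizer ({a} : Set G)) :
    g * u * g⁻¹ ∈ centralizer ({a} : Set G) := by
  rw [mem_cent_iff] at hu ⊢
  have hui : u * a⁻¹ * u⁻¹ = a⁻¹ := by
    rw [show u * a⁻¹ * u⁻¹ = (u * a * u⁻¹)⁻¹ by group, hu]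
  rcases (inv_mem hg : g⁻¹ ∈ signCent a) with h | h <;> rw [inv_inv] at h
  · calc g * u * g⁻¹ * a * (g * u * g⁻¹)⁻¹ = g * (u * (g⁻¹ * a * g) * u⁻¹) * g⁻¹ := by group
      _ = g * (g⁻¹ * a * g) * g⁻¹ := by rw [h, hu]
      _ = a := by group
  · calc g * u * g⁻¹ * a * (g * u * g⁻¹)⁻¹ = g * (u * (g⁻¹ * a * g) * u⁻¹) * g⁻¹ := by group
      _ = g * (g⁻¹ * a * g) * g⁻¹ := by rw [h, hui]
      _ = a := by group

theorem mem_cent_of_odd {a g : G} (hg : g ∈ signCent a) (ho : Odd (orderOf g)) :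
    g ∈ centralizer ({a} : Set G) := by
  obtain ⟨j, hj⟩ := ho
  have h : g * g ^ (2 * j) = 1 := by rw [← pow_succ', ← hj, pow_orderOf_eq_one]
  rw [eq_inv_of_mul_eq_one_left h, pow_mul]
  exact inv_mem (pow_mem (by rw [pow_two]; exact sq_mem_cent hg) j)

theorem not_both {a g : G} (hne : a ≠ a⁻¹) (h : g * a * g⁻¹ = a⁻¹) :
    g ∉ centralizer ({a} : Set G) := fun hc => hne ((mem_cent_iff.1 hc).symm.trans h)

/-- If `s` is a power of the product of two involutions then it commutes with both. -/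
theorem commute_of_mem_zpowers {u v s : G} (hu : u * u = 1) (hv : v * v = 1) (hs : s * s = 1)
    (h : s ∈ zpowers (u * v)) : u * s = s * u ∧ v * s = s * v := by
  obtain ⟨i, hi⟩ := mem_zpowers_iff.1 h
  have hui := inv_eq_of_mul_eq_one_right hu
  have hvi := inv_eq_of_mul_eq_one_right hv
  have hsi := inv_eq_of_mul_eq_one_right hs
  have hd : ∀ p : G, p * (u * v) * p⁻¹ = (u * v)⁻¹ → p * s = s * p := by
    intro p hp
    have : p * s * p⁻¹ = s := by
      conv_lhs => rw [← hi]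
      rw [← conj_zpow, hp, inv_zpow, hi, hsi]
    exact mul_inv_eq_iff_eq_mul.1 this
  refine ⟨hd u ?_, hd v ?_⟩
  · rw [hui, _root_.mul_inv_rev, hui, hvi, ← mul_assoc, hu, one_mul]
  · rw [hvi, _root_.mul_inv_rev, hui, hvi, mul_assoc, mul_assoc u, hv, mul_one]

/-- The involutions in two cosets. -/
theorem card_two_cosets (O : Subgroup G) (p q : G) (hpq : p⁻¹ * q ∉ O) (S : G → Prop)
    (hS : ∀ u, S u ↔ u * u = 1 ∧ (p⁻¹ * u ∈ O ∨ q⁻¹ * u ∈ O)) :
    Nat.card {u : G // S u} = cosetInv O p + cosetInv O q := by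
  classical
  rw [cosetInv, cosetInv, ← Nat.card_sum]
  refine (Nat.card_congr (Equiv.ofBijective
    (Sum.elim (fun u => (⟨u.1, (hS _).2 ⟨u.2.1, Or.inl u.2.2⟩⟩ : {u : G // S u}))
      (fun u => ⟨u.1, (hS _).2 ⟨u.2.1, Or.inr u.2.2⟩⟩)) ⟨?_, ?_⟩)).symm
  · rintro (⟨u, hu⟩ | ⟨u, hu⟩) (⟨v, hv⟩ | ⟨v, hv⟩) h <;>
      simp only [Sum.elim_inl, Sum.elim_inr, Subtype.mk.injEq] at h <;> subst h
    · rfl
    · exact absurd (by simpa [mul_assoc] using mul_mem hu.2 (inv_mem hv.2)) hpq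
    · exact absurd (by simpa [mul_assoc] using mul_mem hv.2 (inv_mem hu.2)) hpq
    · rfl
  · rintro ⟨u, hu⟩
    obtain ⟨h2, h | h⟩ := (hS u).1 hu
    · exact ⟨Sum.inl ⟨u, h2, h⟩, rfl⟩
    · exact ⟨Sum.inr ⟨u, h2, h⟩, rfl⟩

/-- The part of `oddSub (x * w)` centralising `a`. -/
noncomputable abbrev Lsub (w x a : G) : Subgroup G :=
  oddSub (x * w) ⊓ centralizer ({a} : Set G)

/-- The number of involutions in `w² · Lsub`. -/
noncomputable abbrev nVal (w x a : G) : ℕ := cosetInv (Lsub w x a) (w ^ 2)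

namespace Conf

variable {P : Sylow 2 G} {w x : G} (c : Conf P w x)
include c

theorem P_cases {p : G} (hp : p ∈ (P : Subgroup G)) :
    ∃ k < 4, p = w ^ k ∨ p = x * w ^ k := by
  rcases c.dih.decomp p hp with h | h
  · obtain ⟨k, hk⟩ := (mem_powers_iff_mem_zpowers (x := w)).2 h
    simp only at hk
    exact ⟨k % (2 * 2), Nat.mod_lt _ (by norm_num), Or.inl (by rw [← c.dih.pow_mod_rot, hk])⟩
  · obtain ⟨k, hk⟩ := (mem_powers_iff_mem_zpowers (x := w)).2 h
    simp only at hk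
    exact ⟨k % (2 * 2), Nat.mod_lt _ (by norm_num), Or.inr (by
      rw [← c.dih.pow_mod_rot, hk, ← mul_assoc, c.xx, one_mul])⟩

theorem wx_eq : w * x = x * w * w ^ 2 := by
  calc w * x = w * x * w⁻¹ * w := by group
    _ = x * w * w ^ 2 := by rw [c.wxw]; group

theorem y_sq : x * w * (x * w) = 1 := c.swap.xx

theorem x_conj_y : x * (x * w) * x⁻¹ = x * w * w ^ 2 := by
  rw [← mul_assoc, c.xx, one_mul, c.x_inv, c.wx_eq]

theorem cosetInv_x :
    cosetInv (core w) x = Nat.card (fixPart w (x * w)) ∧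
      cosetInv (core w) (x * w ^ 2) = Nat.card (fixPart w (x * w)) := by
  have hn := c.dih.P_norm (c.dih.J_mem) c.dih.J_ne
  have h1 := c.dih.card_refl c.odd_core hn x c.dih.τ_mem c.xx
  have h2 := c.dih.card_refl c.odd_core hn (x * w ^ 2)
    (mul_mem c.dih.τ_mem (pow_mem c.dih.σ_mem 2)) c.xt_sq
  have e : core w ⊓ centralizer ({x * w ^ 2} : Set G) = fixPart w x := by
    rw [pow_two, ← mul_assoc]
    exact c.fixPart_swap_swap
  have hA : 0 < Nat.card (fixPart w x) := Nat.card_pos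
  rw [c.card_core] at h1 h2
  rw [e] at h2
  exact ⟨Nat.eq_of_mul_eq_mul_right hA (by rw [h1, mul_comm]),
    Nat.eq_of_mul_eq_mul_right hA (by rw [h2, mul_comm])⟩

theorem cosetInv_y :
    cosetInv (core w) (x * w) = Nat.card (fixPart w x) ∧
      cosetInv (core w) (x * w * w ^ 2) = Nat.card (fixPart w x) := by
  have h := c.swap.cosetInv_x
  rwa [c.fixPart_swap_swap] at h

theorem ne_inv {z : G} (hz : z ∈ core w) (h1 : z ≠ 1) : z ≠ z⁻¹ := fun h =>
  h1 (KleinOrder.eq_one_of_mem_O (mul_eq_one_iff_eq_inv.2 h) hz)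

theorem conj_core {z u : G} (hz : z ∈ core w) (hu : u ∈ core w) : z * u * z⁻¹ = u := by
  rw [c.comm_core hz hu, mul_inv_cancel_right]

theorem y_fix {z : G} (hz : z ∈ fixPart w (x * w)) :
    x * w * z * (x * w)⁻¹ = z ∧ x * z * x⁻¹ = z⁻¹ := by
  have h : z * (x * w) = x * w * z := mem_centralizer_singleton_iff.1 hz.2
  refine ⟨by rw [← h, mul_inv_cancel_right], ?_⟩
  rw [c.x_inv]
  exact (c.xw_fix_iff hz.1).1 h

variable {a₀ : G} (ha : a₀ ∈ fixPart w x) (ha1 : a₀ ≠ 1)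
include ha

theorem x_fix : x * a₀ * x⁻¹ = a₀ := by
  rw [← mem_centralizer_singleton_iff.1 ha.2, mul_inv_cancel_right]

theorem t_fix : w ^ 2 * a₀ * (w ^ 2)⁻¹ = a₀ := by
  rw [← c.comm_t ha.1, mul_inv_cancel_right]

theorem y_inverts : x * w * a₀ * (x * w)⁻¹ = a₀⁻¹ := by
  calc x * w * a₀ * (x * w)⁻¹ = x * (w * a₀ * w⁻¹) * x⁻¹ := by group
    _ = (x * a₀ * x⁻¹)⁻¹ := by rw [c.inv_w ha.1]; group
    _ = a₀⁻¹ := by rw [c.x_fix ha]

theorem w_sign : w ∈ signCent a₀ := Or.inr (c.inv_w ha.1)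

theorem x_cent : x ∈ centralizer ({a₀} : Set G) := mem_cent_iff.2 (c.x_fix ha)

theorem t_cent : w ^ 2 ∈ centralizer ({a₀} : Set G) := mem_cent_iff.2 (c.t_fix ha)

theorem y_sign : x * w ∈ signCent a₀ := Or.inr (c.y_inverts ha)

theorem P_le_signCent : (P : Subgroup G) ≤ signCent a₀ := by
  intro p hp
  obtain ⟨k, -, rfl | rfl⟩ := c.P_cases hp
  · exact pow_mem (c.w_sign ha) k
  · exact mul_mem (cent_le_signCent _ (c.x_cent ha)) (pow_mem (c.w_sign ha) k)

theorem core_le_cent : core w ≤ centralizer ({a₀} : Set G) := fun _ hz =>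
  mem_centralizer_singleton_iff.2 (c.comm_core hz ha.1)

theorem cent_t_le : centralizer ({w ^ 2} : Set G) ≤ signCent a₀ := by
  intro g hg
  obtain ⟨p, hp, z, hz, rfl⟩ := c.decomp_t (mem_centralizer_singleton_iff.1 hg)
  exact mul_mem (c.P_le_signCent ha hp) (cent_le_signCent _ (c.core_le_cent ha hz))

include ha1

theorem y_notMem : x * w ∉ centralizer ({a₀} : Set G) :=
  not_both (c.ne_inv ha.1 ha1) (c.y_inverts ha)

theorem w_notMem : w ∉ centralizer ({a₀} : Set G) :=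
  not_both (c.ne_inv ha.1 ha1) (c.inv_w ha.1)

theorem P_fix {p : G} (hp : p ∈ (P : Subgroup G)) (h : p ∈ centralizer ({a₀} : Set G)) :
    p = 1 ∨ p = w ^ 2 ∨ p = x ∨ p = x * w ^ 2 := by
  obtain ⟨k, hk, hp' | hp'⟩ := c.P_cases hp <;> subst hp' <;> interval_cases k
  · simp
  · exact absurd (by simpa using h) (c.w_notMem ha ha1)
  · simp
  · refine absurd (inv_mem h) ?_
    rw [← c.w_inv, inv_inv]
    exact c.w_notMem ha ha1
  · simp
  · exact absurd (by simpa using h) (c.y_notMem ha ha1)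
  · simp
  · refine absurd ((mul_mem_cancel_right (c.t_cent ha)).1 ?_) (c.y_notMem ha ha1)
    rwa [mul_assoc x, ← pow_succ']

theorem decomp_cent_t {g : G} (hg : g * w ^ 2 = w ^ 2 * g) (h : g ∈ centralizer ({a₀} : Set G)) :
    ∃ v : G, (v = 1 ∨ v = w ^ 2 ∨ v = x ∨ v = x * w ^ 2) ∧ ∃ z ∈ core w, g = v * z := by
  obtain ⟨p, hp, z, hz, rfl⟩ := c.decomp_t hg
  exact ⟨p, c.P_fix ha ha1 hp ((mul_mem_cancel_right (c.core_le_cent ha hz)).1 h), z, hz, rfl⟩

theorem sign_split {g : G} (hg : g ∈ signCent a₀) :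
    g ∈ centralizer ({a₀} : Set G) ∨ w⁻¹ * g ∈ centralizer ({a₀} : Set G) := by
  rcases hg with h | h
  · exact Or.inl (mem_cent_iff.2 h)
  · refine Or.inr (mem_cent_iff.2 ?_)
    calc w⁻¹ * g * a₀ * (w⁻¹ * g)⁻¹ = w⁻¹ * (g * a₀ * g⁻¹) * w := by group
      _ = w⁻¹ * (w * a₀ * w⁻¹) * w := by rw [h, c.inv_w ha.1]
      _ = a₀ := by group

theorem card_signCent :
    Nat.card (signCent a₀) = 2 * Nat.card (centralizer ({a₀} : Set G)) :=
  card_eq_two_mul (cent_le_signCent a₀) (c.w_sign ha) (c.w_notMem ha ha1)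
    fun _ hg => c.sign_split ha ha1 hg

theorem card_cent_t :
    Nat.card ↥(centralizer ({a₀} : Set G) ⊓ centralizer ({w ^ 2} : Set G)) =
      4 * (Nat.card (fixPart w x) * Nat.card (fixPart w (x * w))) := by
  have hw : w ∈ centralizer ({w ^ 2} : Set G) :=
    mem_centralizer_singleton_iff.2 (by rw [← pow_succ', ← pow_succ])
  have h := card_eq_two_mul (C := centralizer ({w ^ 2} : Set G))
    (K := centralizer ({a₀} : Set G) ⊓ centralizer ({w ^ 2} : Set G)) inf_le_right hw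
    (fun h => c.w_notMem ha ha1 h.1) fun g hg =>
      (c.sign_split ha ha1 (c.cent_t_le ha hg)).imp (fun h => ⟨h, hg⟩)
        (fun h => mem_inf.2 ⟨h, mul_mem (inv_mem hw) hg⟩)
  rw [c.card_C] at h
  omega

theorem fixPair_le_cent :
    centralizer ({w ^ 2, x} : Set G) ≤ centralizer ({a₀} : Set G) := by
  intro g hg
  simp only [mem_centralizer_iff, Set.mem_insert_iff, Set.mem_singleton_iff, forall_eq_or_imp,
    forall_eq] at hg
  obtain ⟨p, hp, z, hz, rfl⟩ := c.decomp_t hg.1.symm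
  refine mul_mem ?_ (c.core_le_cent ha hz)
  -- `p` commutes with `x`
  have hz' : x⁻¹ * (z * x * z⁻¹) ∈ core w := by
    rw [show x⁻¹ * (z * x * z⁻¹) = x⁻¹ * z * x⁻¹⁻¹ * z⁻¹ by group]
    exact mul_mem (c.norm_core (inv_mem c.dih.τ_mem) hz) (inv_mem hz)
  have hpx : p * x = x * p := by
    have h1 : (p * x * p⁻¹)⁻¹ * x = p * (x⁻¹ * (z * x * z⁻¹)) * p⁻¹ := by
      calc (p * x * p⁻¹)⁻¹ * x = p * x⁻¹ * p⁻¹ * (x * (p * z) * (p * z)⁻¹) := by group
        _ = p * (x⁻¹ * (z * x * z⁻¹)) * p⁻¹ := by rw [hg.2]; group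
    have h2 : (p * x * p⁻¹)⁻¹ * x = 1 := c.eq_one_of_P
      (mul_mem (inv_mem (mul_mem (mul_mem hp c.dih.τ_mem) (inv_mem hp))) c.dih.τ_mem)
      (h1 ▸ c.norm_core hp hz')
    exact mul_inv_eq_iff_eq_mul.1 (inv_mul_eq_one.1 h2)
  have hx := c.x_cent ha
  have ht := c.t_cent ha
  have hne : ∀ u : G, u * x * u⁻¹ = x * w ^ 2 → ¬ u * x = x * u := fun u h1 h2 =>
    c.xt_ne_x (by rw [← h1, h2, mul_inv_cancel_right])
  obtain ⟨k, hk, hp' | hp'⟩ := c.P_cases hp <;> subst hp' <;> interval_cases k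
  · simp
  · exact absurd (by simpa using hpx) (hne w c.wxw)
  · exact ht
  · refine absurd hpx (hne _ ?_)
    calc w ^ 3 * x * (w ^ 3)⁻¹ = w ^ 2 * (w * x * w⁻¹) * (w ^ 2)⁻¹ := by group
      _ = x * w ^ 2 := by rw [c.wxw, ← mul_assoc, ← c.x_comm_t]; group
  · simpa using hx
  · refine absurd hpx (hne _ ?_)
    calc x * w ^ 1 * x * (x * w ^ 1)⁻¹ = x * (w * x * w⁻¹) * x⁻¹ := by group
      _ = x * w ^ 2 := by rw [c.wxw, ← mul_assoc, c.xx, one_mul, c.x_inv, ← c.x_comm_t]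
  · exact mul_mem hx ht
  · refine absurd hpx (hne _ ?_)
    calc x * w ^ 3 * x * (x * w ^ 3)⁻¹ = x * (w ^ 2 * (w * x * w⁻¹) * (w ^ 2)⁻¹) * x⁻¹ := by group
      _ = x * (x * w ^ 2) * x⁻¹ := by rw [c.wxw, ← mul_assoc (w ^ 2), ← c.x_comm_t]; group
      _ = x * w ^ 2 := by rw [← mul_assoc, c.xx, one_mul, c.x_inv, ← c.x_comm_t]

/-- The structure of `C(y)` inside `signCent a₀`. -/
theorem decomp_cent_y (hperf : commutator G = ⊤) {g : G} (hg : g ∈ signCent a₀)
    (hgy : g * (x * w) = x * w * g) :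
    ∃ v : G, (v = 1 ∨ v = w ^ 2 ∨ v = x * w ∨ v = x * w * w ^ 2) ∧
      ∃ z ∈ Lsub w x a₀, g = v * z := by
  obtain ⟨g', hg', hy', hyt'⟩ := c.swap.exists_fusion hperf
  set y := x * w with hy
  have hty : w ^ 2 * y = y * w ^ 2 := c.swap.x_comm_t.symm
  have hyord : orderOf y = 2 := c.swap.x_order
  have hodd : ∀ u ∈ core w, g' * u * g'⁻¹ ∈ oddSub y := fun u hu => by
    rw [← hg', c.oddSub_eq rfl]
    exact ⟨u, hu, rfl⟩
  -- squares
  have key : ∀ k ∈ signCent a₀, k * y = y * k → ∀ p ∈ (P : Subgroup G), ∀ z ∈ core w,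
      k = g' * (p * z) * g'⁻¹ → p * p = 1 := by
    intro k hk hky p hp z hz hkeq
    rcases c.dih.decomp p hp with h | h
    swap
    · exact c.dih.refl_sq h
    by_contra hp2
    have h4 : p * p * (p * p) = 1 := by
      obtain ⟨i, rfl⟩ := mem_zpowers_iff.1 h
      rw [← zpow_add, ← zpow_add, show i + i + (i + i) = (4 : ℕ) * i by push_cast; ring, zpow_mul,
        zpow_natCast, c.w_four, one_zpow]
    have hpp : p * p = w ^ 2 := ((c.dih.sq_eq_one_iff (mul_mem h h)).1 h4).resolve_left hp2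
    have hz' : p⁻¹ * z * p * z ∈ core w := by
      refine mul_mem ?_ hz
      simpa using c.norm_core (inv_mem hp) hz
    have hk2 : k * k = y * (g' * (p⁻¹ * z * p * z) * g'⁻¹) := by
      rw [← hg', ← hpp, hkeq]; group
    set u := g' * (p⁻¹ * z * p * z) * g'⁻¹
    have hu := (c.mem_oddSub hyord).1 (hodd _ hz')
    refine c.y_notMem ha ha1 ?_
    have hmem : y * u ∈ centralizer ({a₀} : Set G) := hk2 ▸ sq_mem_cent hk
    have hp' := pow_mem hmem (orderOf u)
    rw [(show Commute y u from hu.1.symm).mul_pow, pow_orderOf_eq_one, mul_one] at hp'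
    obtain ⟨j, hj⟩ := hu.2
    rwa [hj, pow_succ, pow_mul, pow_two, c.y_sq, one_pow, one_mul] at hp'
  have hk : g'⁻¹ * g * g' * w ^ 2 = w ^ 2 * (g'⁻¹ * g * g') := by
    calc g'⁻¹ * g * g' * w ^ 2 = g'⁻¹ * (g * (g' * w ^ 2 * g'⁻¹)) * g' := by group
      _ = g'⁻¹ * (g' * w ^ 2 * g'⁻¹ * g) * g' := by rw [hg', hgy]
      _ = w ^ 2 * (g'⁻¹ * g * g') := by group
  obtain ⟨p, hp, z, hz, hpz⟩ := c.decomp_t hk
  have hgeq : g = g' * (p * z) * g'⁻¹ := by rw [← hpz]; group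
  have hp2 : p * p = 1 := key g hg hgy p hp z hz hgeq
  -- the reflection `s` going to `t`
  obtain ⟨s, hs, hsy⟩ : ∃ s : G, g' * s * g'⁻¹ = w ^ 2 ∧ (s = y ∨ s = y * w ^ 2) := by
    rcases hy' with h | h
    · exact ⟨y, h, Or.inl rfl⟩
    · refine ⟨y * w ^ 2, hyt'.resolve_right fun h' => ?_, Or.inr rfl⟩
      exact c.swap.xt_ne_x (mul_left_cancel (mul_right_cancel (h'.trans h.symm)))
  have hsP : s ∈ (P : Subgroup G) := by
    rcases hsy with rfl | rfl
    · exact c.swap.dih.τ_mem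
    · exact mul_mem c.swap.dih.τ_mem (pow_mem c.dih.σ_mem 2)
  have hss : s * s = 1 := by
    rcases hsy with rfl | rfl
    · exact c.swap.xx
    · exact c.swap.xt_sq
  have hps : p * s * (p * s) = 1 := by
    refine key (g * w ^ 2) (mul_mem hg (cent_le_signCent _ (c.t_cent ha))) ?_ (p * s)
      (mul_mem hp hsP) (s⁻¹ * z * s) ?_ ?_
    · rw [mul_assoc, hty, ← mul_assoc, hgy, mul_assoc]
    · simpa using c.norm_core (inv_mem hsP) hz
    · rw [← hs, hgeq]; group
  have hcomm : p * s = s * p := by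
    have h1 := inv_eq_of_mul_eq_one_right hps
    rw [_root_.mul_inv_rev, inv_eq_of_mul_eq_one_right hp2, inv_eq_of_mul_eq_one_right hss] at h1
    exact h1.symm
  -- so `p` lies in the four-group of `y`
  have hxs : x * s ≠ s * x := by
    intro h
    have hxy : x * y = y * x → False := fun h' => c.swap.xt_ne_x (by
      rw [← c.x_conj_y, h', mul_inv_cancel_right])
    rcases hsy with rfl | rfl
    · exact hxy h
    · refine hxy ?_
      calc x * y = x * (y * w ^ 2) * w ^ 2 := by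
            rw [mul_assoc x, mul_assoc y, c.tt, mul_one]
        _ = y * w ^ 2 * x * w ^ 2 := by rw [h]
        _ = y * x := by
            rw [mul_assoc y, ← c.x_comm_t, ← mul_assoc, mul_assoc (y * x), c.tt, mul_one]
  have hv : ∃ v : G, (v = 1 ∨ v = w ^ 2 ∨ v = y ∨ v = y * w ^ 2) ∧ g' * p * g'⁻¹ = v := by
    rcases c.involution_of_P hp hp2 with rfl | rfl | rfl | rfl | rfl | rfl
    · exact ⟨1, Or.inl rfl, by group⟩
    · exact ⟨y, Or.inr (Or.inr (Or.inl rfl)), hg'⟩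
    · exact absurd hcomm hxs
    · refine absurd ?_ hxs
      have hst : s * w ^ 2 = w ^ 2 * s := c.dih.J_central hsP
      have h2 := congrArg (fun u => u * w ^ 2) hcomm
      rwa [mul_assoc (x * w ^ 2), hst, ← mul_assoc, mul_assoc x, c.tt, mul_one, mul_assoc s,
        mul_assoc x (w ^ 2), c.tt, mul_one] at h2
    · exact ⟨_, hy'.elim (fun h => Or.inr (Or.inl h)) (fun h => Or.inr (Or.inr (Or.inr h))), rfl⟩
    · exact ⟨_, hyt'.elim (fun h => Or.inr (Or.inl h)) (fun h => Or.inr (Or.inr (Or.inr h))), rfl⟩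
  obtain ⟨v, hvV, hv'⟩ := hv
  have hvS : v ∈ signCent a₀ := by
    rcases hvV with rfl | rfl | rfl | rfl
    · exact one_mem _
    · exact cent_le_signCent _ (c.t_cent ha)
    · exact c.y_sign ha
    · exact mul_mem (c.y_sign ha) (cent_le_signCent _ (c.t_cent ha))
  refine ⟨v, hvV, g' * z * g'⁻¹, ⟨hodd z hz, ?_⟩, by rw [hgeq, ← hv']; group⟩
  refine mem_cent_of_odd ?_ (by rw [orderOf_conjugate]; exact c.odd_order hz)
  rw [show g' * z * g'⁻¹ = v⁻¹ * g by rw [hgeq, ← hv']; group]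
  exact mul_mem (inv_mem hvS) hg

theorem Lsub_fixed : Lsub w x a₀ ⊓ centralizer ({w ^ 2} : Set G) = fixPart w (x * w) := by
  ext z
  simp only [mem_inf, mem_centralizer_singleton_iff, c.mem_oddSub c.swap.x_order]
  constructor
  · rintro ⟨⟨⟨hy, ho⟩, -⟩, ht⟩
    exact ⟨c.mem_core_of_odd ht ho, hy⟩
  · rintro ⟨hz, hy⟩
    exact ⟨⟨⟨hy, c.odd_order hz⟩, c.comm_core hz ha.1⟩, c.comm_t hz⟩

theorem odd_Lsub : Odd (Nat.card (Lsub w x a₀)) :=
  Odd.of_dvd_nat (c.odd_oddSub c.swap.x_order) (card_dvd_of_le inf_le_left)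

theorem Lsub_le_cent_y : Lsub w x a₀ ≤ centralizer ({x * w} : Set G) := fun _ hz =>
  mem_centralizer_singleton_iff.2 ((c.mem_oddSub c.swap.x_order).1 hz.1).1

theorem card_Lsub :
    Nat.card (Lsub w x a₀) = nVal w x a₀ * Nat.card (fixPart w (x * w)) := by
  have hn : ∀ u ∈ Lsub w x a₀, w ^ 2 * u * w ^ 2 ∈ Lsub w x a₀ := by
    intro u hu
    have hi : (w ^ 2)⁻¹ = w ^ 2 := inv_eq_of_mul_eq_one_right c.tt
    have h1 := c.conj_mem_oddSub (g := w ^ 2) c.swap.x_order hu.1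
    rw [← c.swap.x_comm_t, mul_inv_cancel_right, hi] at h1
    exact ⟨h1, mul_mem (mul_mem (c.t_cent ha) hu.2) (c.t_cent ha)⟩
  rw [← cosetInv_mul_fixed (c.odd_Lsub ha ha1) c.tt hn, c.Lsub_fixed ha ha1]

theorem nVal_dvd : nVal w x a₀ ∣ Nat.card (fixPart w x) := by
  have h : Nat.card (Lsub w x a₀) ∣ Nat.card (oddSub (x * w)) := card_dvd_of_le inf_le_left
  rw [c.card_Lsub ha ha1, c.card_oddSub c.swap.x_order] at h
  exact Nat.dvd_of_mul_dvd_mul_right Nat.card_pos h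

theorem nVal_odd : Odd (nVal w x a₀) := by
  refine Odd.of_dvd_nat (c.odd_Lsub ha ha1) ?_
  rw [c.card_Lsub ha ha1]
  exact Dvd.intro _ rfl

theorem t_notMem_Lsub : w ^ 2 ∉ Lsub w x a₀ := fun h =>
  c.t_ne (RankOne.eq_one_of_mul_self_of_odd (c.odd_Lsub ha ha1) h c.tt)

theorem card_cent_y (hperf : commutator G = ⊤) :
    Nat.card ↥(signCent a₀ ⊓ centralizer ({x * w} : Set G)) =
      4 * (nVal w x a₀ * Nat.card (fixPart w (x * w))) := by
  set y := x * w with hy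
  have hty : w ^ 2 ∈ centralizer ({y} : Set G) :=
    mem_centralizer_singleton_iff.2 c.swap.x_comm_t.symm
  have h1 := card_eq_two_mul (C := signCent a₀ ⊓ centralizer ({y} : Set G))
    (K := centralizer ({a₀} : Set G) ⊓ centralizer ({y} : Set G))
    (inf_le_inf_right _ (cent_le_signCent a₀)) (w := y)
    ⟨c.y_sign ha, mem_centralizer_singleton_iff.2 rfl⟩ (fun h => c.y_notMem ha ha1 h.1)
    fun g hg => by
      obtain ⟨v, hv, z, hz, rfl⟩ := c.decomp_cent_y ha ha1 hperf hg.1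
        (mem_centralizer_singleton_iff.1 hg.2)
      have hzC : z ∈ centralizer ({a₀} : Set G) ⊓ centralizer ({y} : Set G) :=
        ⟨hz.2, c.Lsub_le_cent_y ha ha1 hz⟩
      have htC : w ^ 2 ∈ centralizer ({a₀} : Set G) ⊓ centralizer ({y} : Set G) :=
        ⟨c.t_cent ha, hty⟩
      rcases hv with rfl | rfl | rfl | rfl
      · left; rwa [one_mul]
      · left; exact mul_mem htC hzC
      · right; rwa [inv_mul_cancel_left]
      · right
        rw [show y⁻¹ * (y * w ^ 2 * z) = w ^ 2 * z by group]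
        exact mul_mem htC hzC
  have h2 := card_eq_two_mul (C := centralizer ({a₀} : Set G) ⊓ centralizer ({y} : Set G))
    (K := Lsub w x a₀) (le_inf inf_le_right (c.Lsub_le_cent_y ha ha1)) (w := w ^ 2)
    ⟨c.t_cent ha, hty⟩ (c.t_notMem_Lsub ha ha1) fun g hg => by
      obtain ⟨v, hv, z, hz, rfl⟩ := c.decomp_cent_y ha ha1 hperf (cent_le_signCent _ hg.1)
        (mem_centralizer_singleton_iff.1 hg.2)
      have hvC := (mul_mem_cancel_right (mem_inf.1 hz).2).1 (mem_inf.1 hg).1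
      rcases hv with rfl | rfl | rfl | rfl
      · left; first | rwa [one_mul] | rwa [inv_mul_cancel_left]
      · right; rwa [inv_mul_cancel_left]
      · exact absurd hvC (c.y_notMem ha ha1)
      · exact absurd ((mul_mem_cancel_right (c.t_cent ha)).1 hvC) (c.y_notMem ha ha1)
  rw [h1, h2, c.card_Lsub ha ha1]
  ring

theorem sq_prod {u v : G} (hu : x⁻¹ * u ∈ core w ∨ (x * w ^ 2)⁻¹ * u ∈ core w)
    (hv : (x * w)⁻¹ * v ∈ core w ∨ (x * w * w ^ 2)⁻¹ * v ∈ core w) :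
    u * v * (u * v) = w ^ 2 := by
  obtain ⟨p, hp, hpu⟩ : ∃ p, (p = x ∨ p = x * w ^ 2) ∧ p⁻¹ * u ∈ core w :=
    hu.elim (fun h => ⟨x, Or.inl rfl, h⟩) (fun h => ⟨_, Or.inr rfl, h⟩)
  obtain ⟨q, hq, hqv⟩ : ∃ q, (q = x * w ∨ q = x * w * w ^ 2) ∧ q⁻¹ * v ∈ core w :=
    hv.elim (fun h => ⟨x * w, Or.inl rfl, h⟩) (fun h => ⟨_, Or.inr rfl, h⟩)
  have hqP : q ∈ (P : Subgroup G) := by
    rcases hq with rfl | rfl
    · exact c.swap.dih.τ_mem
    · exact mul_mem c.swap.dih.τ_mem (pow_mem c.dih.σ_mem 2)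
  have hz : q⁻¹ * (p⁻¹ * u) * q * (q⁻¹ * v) ∈ core w := by
    refine mul_mem ?_ hqv
    simpa using c.norm_core (inv_mem hqP) hpu
  have huv : u * v = p * q * (q⁻¹ * (p⁻¹ * u) * q * (q⁻¹ * v)) := by group
  set z := q⁻¹ * (p⁻¹ * u) * q * (q⁻¹ * v)
  have hxxw : x * (x * w) = w := by rw [← mul_assoc, c.xx, one_mul]
  have htw : w ^ 2 * w = w * w ^ 2 := by rw [← pow_succ, ← pow_succ']
  have hr : p * q = w ∨ p * q = w * w ^ 2 := by
    rcases hp with rfl | rfl <;> rcases hq with rfl | rfl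
    · exact Or.inl hxxw
    · exact Or.inr (by rw [← mul_assoc, hxxw])
    · refine Or.inr ?_
      rw [c.x_comm_t, mul_assoc, hxxw, htw]
    · refine Or.inl ?_
      rw [c.x_comm_t, mul_assoc (w ^ 2), ← mul_assoc x, hxxw, ← mul_assoc, htw, mul_assoc, c.tt,
        mul_one]
  obtain ⟨r, hr2, hrz, huv'⟩ : ∃ r, r * r = w ^ 2 ∧ r * z * r⁻¹ = z⁻¹ ∧ u * v = r * z := by
    rcases hr with h | h <;> rw [h] at huv
    · exact ⟨w, (pow_two w).symm, c.inv_w hz, huv⟩
    · refine ⟨w * w ^ 2, ?_, ?_, huv⟩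
      · calc w * w ^ 2 * (w * w ^ 2) = w * (w ^ 2 * w) * w ^ 2 := by group
          _ = w * (w * w ^ 2) * w ^ 2 := by rw [htw]
          _ = w ^ 2 * (w ^ 2 * w ^ 2) := by group
          _ = w ^ 2 := by rw [c.tt, mul_one]
      · rw [show w * w ^ 2 * z * (w * w ^ 2)⁻¹ = w * (w ^ 2 * z * (w ^ 2)⁻¹) * w⁻¹ by group,
          ← c.comm_t hz, mul_inv_cancel_right, c.inv_w hz]
  rw [huv']
  calc r * z * (r * z) = r * z * r⁻¹ * (r * r) * z := by group
    _ = w ^ 2 := by rw [hr2, hrz, mul_assoc, ← c.comm_t hz, inv_mul_cancel_left]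

/-- The involutions of `C(t) ∩ C(a₀)` other than `t`. -/
theorem card_inner :
    Nat.card {u : G // orderOf u = 2 ∧ u ∈ centralizer ({a₀} : Set G) ∧
        u * w ^ 2 = w ^ 2 * u ∧ u ≠ w ^ 2} = 2 * Nat.card (fixPart w (x * w)) := by
  rw [card_two_cosets (core w) x (x * w ^ 2) ?_ _ ?_, c.cosetInv_x.1, c.cosetInv_x.2, two_mul]
  · rw [inv_mul_cancel_left]
    exact fun h => c.t_ne (c.eq_one_of_P (pow_mem c.dih.σ_mem 2) h)
  intro u
  constructor
  · rintro ⟨ho, hH, ht, hne⟩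
    have h2 : u * u = 1 := by rw [← pow_two, ← ho, pow_orderOf_eq_one]
    have hu1 : u ≠ 1 := fun h => by rw [h, orderOf_one] at ho; omega
    obtain ⟨v, hv, z, hz, rfl⟩ := c.decomp_cent_t ha ha1 ht hH
    refine ⟨h2, ?_⟩
    rcases hv with rfl | rfl | rfl | rfl
    · rw [one_mul] at h2 hu1
      exact absurd (KleinOrder.eq_one_of_mem_O h2 hz) hu1
    · refine absurd ?_ hne
      have hzz : z * z = 1 := by
        rw [mul_assoc, ← mul_assoc z, c.comm_t hz, mul_assoc, ← mul_assoc, c.tt, one_mul] at h2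
        exact h2
      rw [KleinOrder.eq_one_of_mem_O hzz hz, mul_one]
    · left; first | rwa [one_mul] | rwa [inv_mul_cancel_left]
    · right; rwa [inv_mul_cancel_left]
  · rintro ⟨h2, hu⟩
    obtain ⟨p, hpC, hpt, hp1, hpne, hpP, hpu⟩ : ∃ p, p ∈ centralizer ({a₀} : Set G) ∧
        p * w ^ 2 = w ^ 2 * p ∧ p ≠ 1 ∧ p ≠ w ^ 2 ∧ p ∈ (P : Subgroup G) ∧ p⁻¹ * u ∈ core w := by
      rcases hu with h | h
      · exact ⟨x, c.x_cent ha, c.x_comm_t, c.x_ne, c.x_ne_t, c.dih.τ_mem, h⟩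
      · exact ⟨_, mul_mem (c.x_cent ha) (c.t_cent ha), by
          rw [mul_assoc, c.tt, mul_one, c.x_comm_t, ← mul_assoc, c.tt, one_mul],
          c.xt_ne, c.xt_ne_t, mul_mem c.dih.τ_mem (pow_mem c.dih.σ_mem 2), h⟩
    have hu' : u = p * (p⁻¹ * u) := by group
    refine ⟨orderOf_eq_prime (by rw [pow_two, h2]) fun h => ?_, ?_, ?_, fun h => ?_⟩
    · rw [h, mul_one] at hpu
      exact hp1 (inv_eq_one.1 (c.eq_one_of_P (inv_mem hpP) hpu))
    · rw [hu']; exact mul_mem hpC (c.core_le_cent ha hpu)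
    · rw [hu', mul_assoc, c.comm_t hpu, ← mul_assoc, hpt, mul_assoc]
    · rw [h] at hpu
      exact hpne (inv_mul_eq_one.1 (c.eq_one_of_P (mul_mem (inv_mem hpP)
        (pow_mem c.dih.σ_mem 2)) hpu))

/-- The involutions of `C(t)` outside `C(a₀)`. -/
theorem card_outer :
    Nat.card {v : G // orderOf v = 2 ∧ v ∉ centralizer ({a₀} : Set G) ∧
        v * w ^ 2 = w ^ 2 * v} = 2 * Nat.card (fixPart w x) := by
  rw [card_two_cosets (core w) (x * w) (x * w * w ^ 2) ?_ _ ?_, c.cosetInv_y.1, c.cosetInv_y.2,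
    two_mul]
  · rw [inv_mul_cancel_left]
    exact fun h => c.t_ne (c.eq_one_of_P (pow_mem c.dih.σ_mem 2) h)
  intro v
  constructor
  · rintro ⟨ho, hH, ht⟩
    have h2 : v * v = 1 := by rw [← pow_two, ← ho, pow_orderOf_eq_one]
    refine ⟨h2, ?_⟩
    obtain ⟨p, hp, z, hz, rfl⟩ := c.decomp_t ht
    have hpz : p * p = 1 := by
      have h' : p * p * (p⁻¹ * z * p * z) = 1 := by rw [← h2]; group
      have hmem : p⁻¹ * z * p * z ∈ core w :=
        mul_mem (by simpa using c.norm_core (inv_mem hp) hz) hz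
      exact c.eq_one_of_P (mul_mem hp hp) (eq_inv_of_mul_eq_one_left h' ▸ inv_mem hmem)
    have hpH : p ∉ centralizer ({a₀} : Set G) := fun h => hH (mul_mem h (c.core_le_cent ha hz))
    rcases c.involution_of_P hp hpz with rfl | rfl | rfl | rfl | rfl | rfl
    · exact absurd (one_mem _) hpH
    · exact absurd (c.t_cent ha) hpH
    · exact absurd (c.x_cent ha) hpH
    · exact absurd (mul_mem (c.x_cent ha) (c.t_cent ha)) hpH
    · left; first | rwa [one_mul] | rwa [inv_mul_cancel_left]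
    · right; rwa [inv_mul_cancel_left]
  · rintro ⟨h2, hv⟩
    obtain ⟨p, hpC, hpt, hpv⟩ : ∃ p, p ∉ centralizer ({a₀} : Set G) ∧
        p * w ^ 2 = w ^ 2 * p ∧ p⁻¹ * v ∈ core w := by
      rcases hv with h | h
      · exact ⟨x * w, c.y_notMem ha ha1, c.swap.x_comm_t, h⟩
      · exact ⟨_, fun h' => c.y_notMem ha ha1 ((mul_mem_cancel_right (c.t_cent ha)).1 h'), by
          rw [mul_assoc (x * w), c.tt, mul_one, c.swap.x_comm_t, ← mul_assoc, c.tt, one_mul], h⟩
    have hv' : v = p * (p⁻¹ * v) := by group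
    have hvC : v ∉ centralizer ({a₀} : Set G) := fun h => hpC
      ((mul_mem_cancel_right (c.core_le_cent ha hpv)).1 (by rwa [← hv']))
    refine ⟨orderOf_eq_prime (by rw [pow_two, h2]) fun h => hvC (h ▸ one_mem _), hvC, ?_⟩
    rw [hv', mul_assoc, c.comm_t hpv, ← mul_assoc, hpt, mul_assoc]

/-- The pairs with `y` in the group generated by the product. -/
theorem card_pairs_y (hperf : commutator G = ⊤) :
    Nat.card {p : G × G // (orderOf p.1 = 2 ∧ p.1 ∈ centralizer ({a₀} : Set G)) ∧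
      (orderOf p.2 = 2 ∧ p.2 ∈ signCent a₀ ∧ p.2 ∉ centralizer ({a₀} : Set G)) ∧
      x * w ∈ zpowers (p.1 * p.2)} = nVal w x a₀ * nVal w x a₀ := by
  set y := x * w with hy
  have hyy : y * y = 1 := c.y_sq
  have hyi : y⁻¹ = y := inv_eq_of_mul_eq_one_right hyy
  have hti : (w ^ 2)⁻¹ = w ^ 2 := inv_eq_of_mul_eq_one_right c.tt
  have hyt : y * w ^ 2 = w ^ 2 * y := c.swap.x_comm_t
  have hLy : ∀ z ∈ Lsub w x a₀, z * y = y * z := fun z hz =>
    mem_centralizer_singleton_iff.1 (c.Lsub_le_cent_y ha ha1 hz)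
  have hzone : ∀ z ∈ Lsub w x a₀, z * z = 1 → z = 1 := fun z hz h =>
    RankOne.eq_one_of_mul_self_of_odd (c.odd_Lsub ha ha1) hz h
  let T := {u : G // u * u = 1 ∧ (w ^ 2)⁻¹ * u ∈ Lsub w x a₀}
  have hTy : ∀ u : T, (u : G) * y = y * u := by
    rintro ⟨u, -, hu⟩
    show u * y = y * u
    have h := hLy _ hu
    calc u * y = w ^ 2 * ((w ^ 2)⁻¹ * u * y) := by group
      _ = w ^ 2 * y * ((w ^ 2)⁻¹ * u) := by rw [h]; group
      _ = y * u := by rw [← hyt]; group
  have hTC : ∀ u : T, (u : G) ∈ centralizer ({a₀} : Set G) := fun u => by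
    have h := mul_mem (c.t_cent ha) u.2.2.2
    rwa [mul_inv_cancel_left] at h
  have hT1 : ∀ u : T, (u : G) ≠ 1 := fun u h => c.t_notMem_Lsub ha ha1 (by
    have := inv_mem u.2.2
    rwa [h, mul_one, inv_inv] at this)
  rw [show nVal w x a₀ = Nat.card T from rfl, ← Nat.card_prod]
  refine (Nat.card_congr (Equiv.ofBijective
    (fun q : T × T => (⟨((q.1 : G), y * (q.2 : G)), ⟨?_, hTC q.1⟩, ⟨?_, ?_, ?_⟩, ?_⟩ : {p : G × G //
      (orderOf p.1 = 2 ∧ p.1 ∈ centralizer ({a₀} : Set G)) ∧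
      (orderOf p.2 = 2 ∧ p.2 ∈ signCent a₀ ∧ p.2 ∉ centralizer ({a₀} : Set G)) ∧
      y ∈ zpowers (p.1 * p.2)})) ⟨?_, ?_⟩)).symm
  · exact orderOf_eq_prime (by rw [pow_two, q.1.2.1]) (hT1 q.1)
  · refine orderOf_eq_prime ?_ fun h => c.y_notMem ha ha1 ?_
    · show _ ^ 2 = (1 : G)
      rw [pow_two]
      show y * (q.2 : G) * (y * (q.2 : G)) = 1
      rw [(show Commute (q.2 : G) y from hTy q.2).mul_mul_mul_comm, hyy, one_mul,
        q.2.2.1]
    · show y ∈ _
      rw [eq_inv_of_mul_eq_one_left h]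
      exact inv_mem (hTC q.2)
  · exact mul_mem (c.y_sign ha) (cent_le_signCent _ (hTC q.2))
  · exact fun h => c.y_notMem ha ha1 ((mul_mem_cancel_right (hTC q.2)).1 h)
  · -- the product is `y` times an element of `Lsub`
    have hprod : (q.1 : G) * (q.2 : G) ∈ Lsub w x a₀ := by
      have h1 : ((w ^ 2)⁻¹ * (q.1 : G))⁻¹ * ((w ^ 2)⁻¹ * (q.2 : G)) ∈ Lsub w x a₀ :=
        mul_mem (inv_mem q.1.2.2) q.2.2.2
      rwa [_root_.mul_inv_rev, inv_inv, mul_assoc, mul_inv_cancel_left,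
        inv_eq_of_mul_eq_one_right q.1.2.1] at h1
    set z := (q.1 : G) * (q.2 : G)
    have heq : (q.1 : G) * (y * (q.2 : G)) = y * z := by rw [← mul_assoc, hTy q.1, mul_assoc]
    rw [heq]
    obtain ⟨j, hj⟩ := ((c.mem_oddSub c.swap.x_order).1 hprod.1).2
    refine mem_zpowers_iff.2 ⟨(orderOf z : ℤ), ?_⟩
    rw [zpow_natCast, (show Commute y z from (hLy z hprod).symm).mul_pow, pow_orderOf_eq_one,
      mul_one, hj, pow_succ, pow_mul, pow_two, hyy, one_pow, one_mul]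
  · rintro ⟨⟨u, hu⟩, ⟨v, hv⟩⟩ ⟨⟨u', hu'⟩, ⟨v', hv'⟩⟩ h
    simp only [Subtype.mk.injEq, Prod.mk.injEq, mul_right_inj] at h
    obtain ⟨rfl, rfl⟩ := h
    rfl
  · rintro ⟨⟨u, v⟩, ⟨hu, huC⟩, ⟨hv, hvS, hvC⟩, hy'⟩
    simp only at hu huC hv hvS hvC hy'
    have hu2 : u * u = 1 := by rw [← pow_two, ← hu, pow_orderOf_eq_one]
    have hv2 : v * v = 1 := by rw [← pow_two, ← hv, pow_orderOf_eq_one]
    have hu1 : u ≠ 1 := fun h => by rw [h, orderOf_one] at hu; omega
    obtain ⟨huy, hvy⟩ := commute_of_mem_zpowers hu2 hv2 hyy hy'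
    obtain ⟨p, hp, z, hz, rfl⟩ := c.decomp_cent_y ha ha1 hperf (cent_le_signCent _ huC) huy
    have hpC := (mul_mem_cancel_right (mem_inf.1 hz).2).1 huC
    have hpt : p = w ^ 2 := by
      rcases hp with rfl | rfl | rfl | rfl
      · rw [one_mul] at hu2 hu1
        exact absurd (hzone z hz hu2) hu1
      · rfl
      · exact absurd hpC (c.y_notMem ha ha1)
      · exact absurd ((mul_mem_cancel_right (c.t_cent ha)).1 hpC) (c.y_notMem ha ha1)
    subst hpt
    obtain ⟨p, hp, z', hz', rfl⟩ := c.decomp_cent_y ha ha1 hperf hvS hvy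
    have hpC' : p ∉ centralizer ({a₀} : Set G) := fun h => hvC (mul_mem h hz'.2)
    have hpyt : p = y * w ^ 2 := by
      rcases hp with rfl | rfl | rfl | rfl
      · exact absurd (one_mem _) hpC'
      · exact absurd (c.t_cent ha) hpC'
      · -- then `v = y` and the product is an involution other than `y`
        exfalso
        have hzz : z' * z' = 1 := by
          rw [(show Commute z' y from hLy z' hz').mul_mul_mul_comm, hyy, one_mul] at hv2
          exact hv2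
        rw [hzone z' hz' hzz, mul_one] at hy'
        set u := w ^ 2 * z
        have hd : u * y * (u * y) = 1 := by
          rw [(show Commute y u from huy.symm).mul_mul_mul_comm, hu2, hyy, one_mul]
        obtain ⟨i, hi⟩ := mem_zpowers_iff.1 hy'
        rcases Int.even_or_odd i with ⟨j, rfl⟩ | ⟨j, rfl⟩
        · rw [← two_mul, zpow_mul, zpow_two, hd, one_zpow] at hi
          exact c.swap.x_ne hi.symm
        · rw [zpow_add, zpow_one, zpow_mul, zpow_two, hd, one_zpow, one_mul] at hi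
          exact hu1 (mul_eq_right.1 hi)
      · rfl
    subst hpyt
    refine ⟨(⟨w ^ 2 * z, hu2, by rw [inv_mul_cancel_left]; exact hz⟩,
      ⟨w ^ 2 * z', ?_, by rw [inv_mul_cancel_left]; exact hz'⟩), ?_⟩
    · have hc : Commute y (w ^ 2 * z') := (show Commute y (w ^ 2) from hyt).mul_right
        (show Commute y z' from (hLy z' hz').symm)
      rw [mul_assoc y, hc.symm.mul_mul_mul_comm, hyy, one_mul] at hv2
      exact hv2
    · exact Subtype.ext (Prod.ext rfl (mul_assoc y (w ^ 2) z').symm)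

/-- The order of `C(a₀)`, from the two classes of involutions of `signCent a₀`. -/
theorem card_cent (hperf : commutator G = ⊤) :
    Nat.card (centralizer ({a₀} : Set G)) =
      4 * (Nat.card (fixPart w x) * Nat.card (fixPart w (x * w))) *
        (nVal w x a₀ * (2 * Nat.card (fixPart w (x * w)) + nVal w x a₀)) := by
  classical
  haveI : Fact (Nat.Prime 2) := ⟨Nat.prime_two⟩
  set S := signCent a₀ with hS
  obtain ⟨h, hh, hht, hhxt, hhx⟩ := c.exists_cycle hperf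
  have hhS : h ∈ S := cent_le_signCent _ (mem_centralizer_singleton_iff.2 (hh a₀ ha))
  let x₁ : S := ⟨w ^ 2, cent_le_signCent _ (c.t_cent ha)⟩
  let x₂ : S := ⟨x * w, c.y_sign ha⟩
  have h₁ : orderOf x₁ = 2 := by rw [← Subgroup.orderOf_coe]; exact c.t_order
  have h₂ : orderOf x₂ = 2 := by rw [← Subgroup.orderOf_coe]; exact c.swap.x_order
  have hall : ∀ s : S, orderOf s = 2 → IsConj x₁ s ∨ IsConj x₂ s := by
    intro s hs
    obtain ⟨g, hg⟩ := SECount.exists_conj_le_sylow (P.subtype (c.P_le_signCent ha))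
      (V := zpowers s) (IsPGroup.of_card (n := 1) (by rw [Nat.card_zpowers, hs, pow_one]))
    have hmem : ((g * s * g⁻¹ : S) : G) ∈ (P : Subgroup G) :=
      Subgroup.mem_subgroupOf.1 (hg ⟨s, mem_zpowers s, rfl⟩)
    have hp2 : orderOf (g * s * g⁻¹) = 2 := by rw [orderOf_conjugate, hs]
    have hback : IsConj (g * s * g⁻¹) s := isConj_iff.2 ⟨g⁻¹, by group⟩
    have key : ∀ (p : S) (k : S), k * p * k⁻¹ = g * s * g⁻¹ → IsConj p s := fun p k hk =>
      (isConj_iff.2 ⟨k, hk⟩).trans hback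
    rcases c.involution_of_P hmem (by
        rw [← pow_two, ← Subgroup.coe_pow, ← hp2, pow_orderOf_eq_one]; rfl) with
      h' | h' | h' | h' | h' | h'
    · rw [(Subtype.ext h' : g * s * g⁻¹ = 1), orderOf_one] at hp2
      omega
    · exact Or.inl (key x₁ 1 (Subtype.ext (by simpa using h'.symm)))
    · refine Or.inl (key x₁ ⟨h * h, mul_mem hhS hhS⟩ (Subtype.ext ?_))
      rw [h']
      show h * h * w ^ 2 * (h * h)⁻¹ = x
      calc h * h * w ^ 2 * (h * h)⁻¹ = h * (h * w ^ 2 * h⁻¹) * h⁻¹ := by group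
        _ = x := by rw [hht, hhxt]
    · refine Or.inl (key x₁ ⟨h, hhS⟩ (Subtype.ext ?_))
      rw [h']
      exact hht
    · exact Or.inr (key x₂ 1 (Subtype.ext (by simpa using h'.symm)))
    · refine Or.inr (key x₂ ⟨x, cent_le_signCent _ (c.x_cent ha)⟩ (Subtype.ext ?_))
      rw [h']
      exact c.x_conj_y
  have hin : ∀ s : S, IsConj x₁ s → (s : G) ∈ centralizer ({a₀} : Set G) := by
    intro s hs
    obtain ⟨g, rfl⟩ := isConj_iff.1 hs
    exact conj_mem_cent g.2 (c.t_cent ha)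
  have hout : ∀ s : S, IsConj x₂ s → (s : G) ∉ centralizer ({a₀} : Set G) := by
    intro s hs hmem
    obtain ⟨g, hg⟩ := isConj_iff.1 hs.symm
    have := conj_mem_cent g.2 hmem
    rw [show (g : G) * (s : G) * (g : G)⁻¹ = x * w from congrArg Subtype.val hg] at this
    exact c.y_notMem ha ha1 this
  have iff₁ : ∀ s : S, IsConj x₁ s ↔ orderOf (s : G) = 2 ∧ (s : G) ∈ centralizer ({a₀} : Set G) := by
    intro s
    refine ⟨fun h => ⟨?_, hin s h⟩, fun ⟨h1, h2⟩ => ?_⟩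
    · rw [Subgroup.orderOf_coe]
      obtain ⟨g, rfl⟩ := isConj_iff.1 h
      rw [orderOf_conjugate, h₁]
    · exact (hall s (by rw [← Subgroup.orderOf_coe, h1])).resolve_right fun h => hout s h h2
  have iff₂ : ∀ s : S, IsConj x₂ s ↔
      orderOf (s : G) = 2 ∧ (s : G) ∉ centralizer ({a₀} : Set G) := by
    intro s
    refine ⟨fun h => ⟨?_, hout s h⟩, fun ⟨h1, h2⟩ => ?_⟩
    · rw [Subgroup.orderOf_coe]
      obtain ⟨g, rfl⟩ := isConj_iff.1 h
      rw [orderOf_conjugate, h₂]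
    · exact (hall s (by rw [← Subgroup.orderOf_coe, h1])).resolve_left fun h => h2 (hin s h)
  have hnc : ¬ IsConj x₁ x₂ := fun h => hout x₂ (IsConj.refl _) (hin x₂ h)
  have key := Cfsg.Agent.S0213.result x₁ x₂ h₁ h₂ hnc hall
  -- the first pair count
  have n1 : Nat.card {p : S × S // IsConj x₁ p.1 ∧ IsConj x₂ p.2 ∧ x₁ ∈ zpowers (p.1 * p.2)} =
      2 * Nat.card (fixPart w (x * w)) * (2 * Nat.card (fixPart w x)) := by
    rw [← c.card_inner ha ha1, ← c.card_outer ha ha1, ← Nat.card_prod]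
    refine Nat.card_congr (Equiv.ofBijective (fun p => (⟨((p.1.1 : S) : G), ?_⟩,
      ⟨((p.1.2 : S) : G), ?_⟩)) ⟨?_, ?_⟩)
    · obtain ⟨⟨u, v⟩, h1, h2, h3⟩ := p
      obtain ⟨hu, huC⟩ := (iff₁ u).1 h1
      obtain ⟨hv, hvC⟩ := (iff₂ v).1 h2
      have h3' : w ^ 2 ∈ zpowers ((u : G) * (v : G)) := by
        obtain ⟨i, hi⟩ := mem_zpowers_iff.1 h3
        exact mem_zpowers_iff.2 ⟨i, congrArg Subtype.val hi⟩
      have hu2 : (u : G) * u = 1 := by rw [← pow_two, ← hu, pow_orderOf_eq_one]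
      have hv2 : (v : G) * v = 1 := by rw [← pow_two, ← hv, pow_orderOf_eq_one]
      obtain ⟨hut, hvt⟩ := commute_of_mem_zpowers hu2 hv2 c.tt h3'
      refine ⟨hu, huC, hut, fun he => ?_⟩
      simp only at he
      rw [he] at h3'
      have hd : w ^ 2 * (v : G) * (w ^ 2 * v) = 1 := by
        rw [(show Commute (v : G) (w ^ 2) from hvt).mul_mul_mul_comm, c.tt, hv2, one_mul]
      obtain ⟨i, hi⟩ := mem_zpowers_iff.1 h3'
      rcases Int.even_or_odd i with ⟨j, rfl⟩ | ⟨j, rfl⟩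
      · rw [← two_mul, zpow_mul, zpow_two, hd, one_zpow] at hi
        exact c.t_ne hi.symm
      · rw [zpow_add, zpow_one, zpow_mul, zpow_two, hd, one_zpow, one_mul] at hi
        exact hvC (by rw [mul_eq_left.1 hi]; exact one_mem _)
    · obtain ⟨⟨u, v⟩, h1, h2, h3⟩ := p
      obtain ⟨hv, hvC⟩ := (iff₂ v).1 h2
      obtain ⟨hu, -⟩ := (iff₁ u).1 h1
      refine ⟨hv, hvC, (commute_of_mem_zpowers (u := (u : G)) ?_ ?_ c.tt ?_).2⟩
      · rw [← pow_two, ← hu, pow_orderOf_eq_one]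
      · rw [← pow_two, ← hv, pow_orderOf_eq_one]
      · obtain ⟨i, hi⟩ := mem_zpowers_iff.1 h3
        exact mem_zpowers_iff.2 ⟨i, congrArg Subtype.val hi⟩
    · rintro ⟨⟨u, v⟩, _⟩ ⟨⟨u', v'⟩, _⟩ h
      simp only [Prod.mk.injEq, Subtype.mk.injEq, Subtype.coe_inj] at h
      obtain ⟨rfl, rfl⟩ := h
      rfl
    · rintro ⟨⟨u, hu, huC, hut, hune⟩, ⟨v, hv, hvC, hvt⟩⟩
      refine ⟨⟨(⟨u, cent_le_signCent _ huC⟩,
        ⟨v, c.cent_t_le ha (mem_centralizer_singleton_iff.2 hvt)⟩),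
        (iff₁ _).2 ⟨hu, huC⟩, (iff₂ _).2 ⟨hv, hvC⟩, mem_zpowers_iff.2 ⟨(2 : ℕ), Subtype.ext ?_⟩⟩,
        rfl⟩
      rw [zpow_natCast, pow_two]
      show u * v * (u * v) = w ^ 2
      have hu2 : u * u = 1 := by rw [← pow_two, ← hu, pow_orderOf_eq_one]
      have hv2 : v * v = 1 := by rw [← pow_two, ← hv, pow_orderOf_eq_one]
      refine c.sq_prod ha ha1 ?_ ?_
      · obtain ⟨p, hp, z, hz, rfl⟩ := c.decomp_cent_t ha ha1 hut huC
        rcases hp with rfl | rfl | rfl | rfl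
        · rw [one_mul] at hu hu2
          rw [KleinOrder.eq_one_of_mem_O hu2 hz, orderOf_one] at hu
          omega
        · refine absurd ?_ hune
          rw [mul_assoc, ← mul_assoc z, c.comm_t hz, mul_assoc, ← mul_assoc, c.tt, one_mul] at hu2
          rw [KleinOrder.eq_one_of_mem_O hu2 hz, mul_one]
        · left; first | rwa [one_mul] | rwa [inv_mul_cancel_left]
        · right; rwa [inv_mul_cancel_left]
      · obtain ⟨p, hp, z, hz, rfl⟩ := c.decomp_t hvt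
        have hpz : p * p = 1 := by
          have h' : p * p * (p⁻¹ * z * p * z) = 1 := by rw [← hv2]; group
          have hmem : p⁻¹ * z * p * z ∈ core w :=
            mul_mem (by simpa using c.norm_core (inv_mem hp) hz) hz
          exact c.eq_one_of_P (mul_mem hp hp) (eq_inv_of_mul_eq_one_left h' ▸ inv_mem hmem)
        have hpH : p ∉ centralizer ({a₀} : Set G) := fun h =>
          hvC (mul_mem h (c.core_le_cent ha hz))
        rcases c.involution_of_P hp hpz with rfl | rfl | rfl | rfl | rfl | rfl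
        · exact absurd (one_mem _) hpH
        · exact absurd (c.t_cent ha) hpH
        · exact absurd (c.x_cent ha) hpH
        · exact absurd (mul_mem (c.x_cent ha) (c.t_cent ha)) hpH
        · left; first | rwa [one_mul] | rwa [inv_mul_cancel_left]
        · right; rwa [inv_mul_cancel_left]
  -- the second pair count
  have n2 : Nat.card {p : S × S // IsConj x₁ p.1 ∧ IsConj x₂ p.2 ∧ x₂ ∈ zpowers (p.1 * p.2)} =
      nVal w x a₀ * nVal w x a₀ := by
    rw [← c.card_pairs_y ha ha1 hperf]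
    refine Nat.card_congr (Equiv.ofBijective (fun p => (⟨(((p.1.1 : S) : G), ((p.1.2 : S) : G)),
      (iff₁ _).1 p.2.1, ⟨((iff₂ _).1 p.2.2.1).1, p.1.2.2, ((iff₂ _).1 p.2.2.1).2⟩, ?_⟩ :
        {p : G × G // (orderOf p.1 = 2 ∧ p.1 ∈ centralizer ({a₀} : Set G)) ∧
          (orderOf p.2 = 2 ∧ p.2 ∈ signCent a₀ ∧ p.2 ∉ centralizer ({a₀} : Set G)) ∧
          x * w ∈ zpowers (p.1 * p.2)})) ⟨?_, ?_⟩)
    · obtain ⟨i, hi⟩ := mem_zpowers_iff.1 p.2.2.2
      exact mem_zpowers_iff.2 ⟨i, congrArg Subtype.val hi⟩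
    · rintro ⟨⟨u, v⟩, _⟩ ⟨⟨u', v'⟩, _⟩ h
      simp only [Prod.mk.injEq, Subtype.mk.injEq, Subtype.coe_inj] at h
      obtain ⟨rfl, rfl⟩ := h
      rfl
    · rintro ⟨⟨u, v⟩, hu, ⟨hv, hvS, hvC⟩, hy⟩
      refine ⟨⟨(⟨u, cent_le_signCent _ hu.2⟩, ⟨v, hvS⟩), (iff₁ _).2 hu, (iff₂ _).2 ⟨hv, hvC⟩, ?_⟩,
        rfl⟩
      obtain ⟨i, hi⟩ := mem_zpowers_iff.1 hy
      exact mem_zpowers_iff.2 ⟨i, Subtype.ext hi⟩
  rw [n1, n2, card_centralizer_subtype, card_centralizer_subtype, Set.image_singleton,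
    Set.image_singleton] at key
  simp only [x₁, x₂] at key
  rw [c.card_cent_y ha ha1 hperf, inf_eq_right.2 (c.cent_t_le ha), c.card_C,
    c.card_signCent ha ha1] at key
  set A := Nat.card (fixPart w x)
  set B := Nat.card (fixPart w (x * w))
  set n := nVal w x a₀
  have e : 2 * Nat.card (centralizer ({a₀} : Set G)) = 2 * (4 * (A * B) * (n * (2 * B + n))) := by
    rw [key]; ring
  omega

/-- The block of the centraliser. -/
theorem nVal_eq_of_dvd (hperf : commutator G = ⊤)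
    (hdvd : nVal w x a₀ ∣ Nat.card (fixPart w (x * w))) :
    nVal w x a₀ = Nat.card (fixPart w (x * w)) := by
  classical
  haveI : Fact (Nat.Prime 2) := ⟨Nat.prime_two⟩
  obtain ⟨M, hM⟩ := CharCount.exists_isPModular 2 Nat.prime_two
  set H := centralizer ({a₀} : Set G) with hH
  set A := Nat.card (fixPart w x) with hA
  set B := Nat.card (fixPart w (x * w)) with hB
  set n := nVal w x a₀ with hn
  have hcard : Nat.card H = 4 * (A * B) * (n * (2 * B + n)) := c.card_cent ha ha1 hperf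
  have hodd : Odd (A * B * (n * (2 * B + n))) := by
    have h1 : Odd (A * B) := by rw [hA, hB, ← c.card_core]; exact c.odd_core
    exact h1.mul ((c.nVal_odd ha ha1).mul ((even_two_mul B).add_odd (c.nVal_odd ha ha1)))
  obtain ⟨h, hh, hht, hhxt, hhx⟩ := c.exists_cycle hperf
  have hhH : h ∈ H := mem_centralizer_singleton_iff.2 (hh a₀ ha)
  set V := H ⊓ (P : Subgroup G) with hV
  have hVmem : ∀ {p : G}, p ∈ V → p = 1 ∨ p = w ^ 2 ∨ p = x ∨ p = x * w ^ 2 :=
    fun hp => c.P_fix ha ha1 hp.2 hp.1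
  have hV4 : Nat.card V = 4 := by
    have h8 : Nat.card (P : Subgroup G) = 8 := c.dih.card
    have h2 := card_eq_two_mul (C := (P : Subgroup G)) (K := V) inf_le_right c.dih.σ_mem
      (fun h => c.w_notMem ha ha1 h.1) fun g hg =>
      (c.sign_split ha ha1 (c.P_le_signCent ha hg)).imp (fun h => ⟨h, hg⟩)
        (fun h => mem_inf.2 ⟨h, mul_mem (inv_mem c.dih.σ_mem) hg⟩)
    omega
  have hfac : (Nat.card H).factorization 2 = 2 := by
    rw [hcard, show 4 * (A * B) * (n * (2 * B + n)) = 2 ^ 2 * (A * B * (n * (2 * B + n))) by ring,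
      Nat.factorization_mul (by norm_num) hodd.pos.ne', Finsupp.add_apply,
      Nat.prime_two.factorization_pow, Finsupp.single_eq_same,
      Nat.factorization_eq_zero_of_not_dvd fun h =>
        Nat.not_even_iff_odd.2 hodd (even_iff_two_dvd.2 h)]
  let Q : Sylow 2 H := Sylow.ofCard (V.subgroupOf H) (by
    rw [Nat.card_congr (subgroupOfEquivOfLe (inf_le_left : V ≤ H)).toEquiv, hV4, hfac]; norm_num)
  have hQmem : ∀ {s : H}, s ∈ (Q : Subgroup H) ↔ (s : G) ∈ V := by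
    intro s
    simp only [Q, Sylow.coe_ofCard, mem_subgroupOf]
  have hsq : ∀ s : (Q : Subgroup H), s * s = 1 := by
    intro s
    refine Subtype.ext (Subtype.ext ?_)
    show ((s : H) : G) * ((s : H) : G) = 1
    rcases hVmem (hQmem.1 s.2) with h | h | h | h <;> rw [h]
    exacts [one_mul 1, c.tt, c.xx, c.xt_sq]
  have hQ4 : Nat.card (Q : Subgroup H) = 4 := by
    rw [Q.card_eq_multiplicity, hfac]; norm_num
  have hQK : IsKleinFour (Q : Subgroup H) := by
    refine ⟨hQ4, ?_⟩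
    haveI : Nontrivial (Q : Subgroup H) := by
      rw [← Finite.one_lt_card_iff_nontrivial, hQ4]; norm_num
    refine (Nat.dvd_prime Nat.prime_two).1 (Monoid.exponent_dvd_of_forall_pow_eq_one fun s => by
      rw [pow_two]; exact hsq s) |>.resolve_left fun h => not_subsingleton (Q : Subgroup H)
      (Monoid.exp_eq_one_iff.1 h)
  let J : H := ⟨w ^ 2, c.t_cent ha⟩
  have hJ : J ∈ (Q : Subgroup H) := hQmem.2 ⟨c.t_cent ha, pow_mem c.dih.σ_mem 2⟩
  have hJ2 : orderOf J = 2 := by rw [← Subgroup.orderOf_coe]; exact c.t_order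
  have hJall : ∀ s : H, orderOf s = 2 → IsConj J s := by
    intro s hs
    obtain ⟨g, hg⟩ := SECount.exists_conj_le_sylow Q
      (V := zpowers s) (IsPGroup.of_card (n := 1) (by rw [Nat.card_zpowers, hs, pow_one]))
    have hp2 : orderOf (g * s * g⁻¹) = 2 := by rw [orderOf_conjugate, hs]
    refine IsConj.trans ?_ (isConj_iff.2 ⟨g⁻¹, by group⟩ : IsConj (g * s * g⁻¹) s)
    rcases hVmem (hQmem.1 (hg ⟨s, mem_zpowers s, rfl⟩)) with h' | h' | h' | h'
    · have h1 : g * s * g⁻¹ = 1 := Subtype.ext h'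
      rw [h1, orderOf_one] at hp2
      omega
    · exact isConj_iff.2 ⟨1, Subtype.ext (by simpa [J] using h'.symm)⟩
    · refine isConj_iff.2 ⟨⟨h * h, mul_mem hhH hhH⟩, Subtype.ext ?_⟩
      refine Eq.trans ?_ h'.symm
      show h * h * w ^ 2 * (h * h)⁻¹ = x
      calc h * h * w ^ 2 * (h * h)⁻¹ = h * (h * w ^ 2 * h⁻¹) * h⁻¹ := by group
        _ = x := by rw [hht, hhxt]
    · exact isConj_iff.2 ⟨⟨h, hhH⟩, Subtype.ext (hht.trans h'.symm)⟩
  have hg4 : Nat.card H = 4 * (A * B * (n * (2 * B + n))) := by rw [hcard]; ring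
  have hnc : ¬ ∃ N : Subgroup H, N.Normal ∧ Nat.card N = A * B * (n * (2 * B + n)) := by
    rintro ⟨N, hN, hNc⟩
    haveI := hN
    have hidx : Nat.card (H ⧸ N) = 2 ^ 2 := by
      have h' := N.card_mul_index
      rw [hNc, hg4, mul_comm 4] at h'
      exact Nat.eq_of_mul_eq_mul_left hodd.pos (by rw [← Subgroup.index]; linarith)
    have hxN : (⟨x, c.x_cent ha⟩ : H) ∈ N := by
      rw [← QuotientGroup.eq_one_iff]
      have e : (⟨x, c.x_cent ha⟩ : H) = ⟨h, hhH⟩ * J * ⟨h, hhH⟩⁻¹ * J := Subtype.ext (by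
        show x = h * w ^ 2 * h⁻¹ * w ^ 2
        rw [hht, mul_assoc, c.tt, mul_one])
      rw [e, QuotientGroup.mk_mul, QuotientGroup.mk_mul, QuotientGroup.mk_mul, QuotientGroup.mk_inv]
      rw [IsPGroup.commutative_of_card_eq_prime_sq (p := 2) hidx
        ((⟨h, hhH⟩ : H) : H ⧸ N) (J : H ⧸ N), mul_inv_cancel_right, ← QuotientGroup.mk_mul,
        QuotientGroup.eq_one_iff, show J * J = 1 from Subtype.ext c.tt]
      exact one_mem _
    have h2 : 2 ∣ Nat.card N := by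
      have := Subgroup.orderOf_dvd_natCard N hxN
      rwa [← Subgroup.orderOf_coe, c.x_order] at this
    exact Nat.not_even_iff_odd.2 hodd (even_iff_two_dvd.2 (hNc ▸ h2))
  obtain ⟨ζ₂, ζ₃, ζ₄, ε, hε, ne2, ne3, ne23, ne24, ne34, hblock, hval, -, -, hdiv4, -⟩ :=
    Cfsg.Agent.S0948.result M hM Q hQK
      (fun s s' hs hs' => (hJall s hs).symm.trans (hJall s' hs'))
  obtain ⟨v2, v3, v4⟩ := hval J hJ2
  have ne4 : (ζ₄ : H → ℂ) ≠ fun _ => 1 := fun h => by
    have := congrFun h J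
    rw [v4] at this
    norm_num at this
  have hform := Cfsg.Agent.S4479.result M hM _ hodd hg4 hnc Q J hJ hJ2 ζ₂ ζ₃ ζ₄ 1 ε (-1) hblock
    ⟨ne2, ne3, ne4, ne23, ne24, ne34⟩ ⟨Or.inl rfl, hε, Or.inr rfl⟩
    ⟨by rw [v2]; simp, v3, by rw [v4]; simp⟩
  have hcJ : Nat.card (centralizer ({J} : Set H)) = 4 * (A * B) := by
    rw [card_centralizer_subtype, Set.image_singleton]
    exact c.card_cent_t ha ha1
  have hcP : Nat.card (centralizer ((Q : Subgroup H) : Set H)) = 4 * A := by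
    have hiff : ∀ z : G, z ∈ H ⊓ centralizer (((↑) : H → G) '' ((Q : Subgroup H) : Set H)) ↔
        z ∈ centralizer ({w ^ 2, x} : Set G) := by
      intro z
      simp only [mem_inf, mem_centralizer_iff, Set.mem_insert_iff, Set.mem_singleton_iff,
        forall_eq_or_imp, forall_eq, Set.forall_mem_image, SetLike.mem_coe]
      constructor
      · rintro ⟨-, hz⟩
        exact ⟨hz hJ, hz (x := ⟨x, c.x_cent ha⟩) (hQmem.2 ⟨c.x_cent ha, c.dih.τ_mem⟩)⟩
      · rintro ⟨h1, h2⟩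
        refine ⟨c.fixPair_le_cent ha ha1 ?_, fun s hs => ?_⟩
        · simp only [mem_centralizer_iff, Set.mem_insert_iff, Set.mem_singleton_iff,
            forall_eq_or_imp, forall_eq]
          exact ⟨h1, h2⟩
        rcases hVmem (hQmem.1 hs) with h | h | h | h <;> rw [h]
        · simp
        · exact h1
        · exact h2
        · rw [mul_assoc, h1, ← mul_assoc, h2, mul_assoc]
    rw [card_centralizer_subtype, Nat.card_congr (Equiv.subtypeEquivRight hiff), c.card_pair]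
  rw [hcJ, hcP, hg4] at hform
  set d2 := (charDegree (ζ₂ : H → ℂ) : ℚ)
  set d3 := (charDegree (ζ₃ : H → ℂ) : ℚ)
  set d4 := (charDegree (ζ₄ : H → ℂ) : ℚ)
  have p2 : (1 : ℚ) ≤ d2 := Nat.one_le_cast.2 (deg_spec ζ₂).2
  have p3 : (1 : ℚ) ≤ d3 := Nat.one_le_cast.2 (deg_spec ζ₃).2
  have p4 : (1 : ℚ) ≤ d4 := Nat.one_le_cast.2 (deg_spec ζ₄).2
  set α := d2 * d3 * d4 / ((d2 + ((1 : ℤ) : ℚ)) * (d3 + (ε : ℚ)) * (d4 + ((-1 : ℤ) : ℚ))) with hαdef
  obtain ⟨l, hl⟩ := hdvd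
  have hl0 : 0 < l := Nat.pos_of_ne_zero fun h => by
    rw [h, mul_zero, hB] at hl
    exact absurd hl Nat.card_pos.ne'
  have hn0 : 0 < n := (c.nVal_odd ha ha1).pos
  have hA0 : 0 < A := Nat.card_pos
  have hB' : (B : ℚ) = n * l := by exact_mod_cast hl
  have hAq : (A : ℚ) ≠ 0 := by positivity
  have hnq : (n : ℚ) ≠ 0 := by positivity
  have heq : (2 * (l : ℚ) + 1) = 8 * α * (l : ℚ) ^ 2 := by
    push_cast at hform
    rw [hB'] at hform
    have hlq : (l : ℚ) ≠ 0 := by positivity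
    field_simp at hform
    linear_combination hform
  have hα0 : α ≠ 0 := fun h => by
    rw [h, mul_zero, zero_mul] at heq
    have : (0 : ℚ) < 2 * l + 1 := by positivity
    linarith
  have f2 : (1 / 2 : ℚ) ≤ d2 / (d2 + 1) := by
    rw [le_div_iff₀ (by linarith)]; linarith
  have f3 : (1 / 2 : ℚ) ≤ d3 / (d3 + ε) := by
    rcases hε with rfl | rfl <;> push_cast
    · rw [le_div_iff₀ (by linarith)]; linarith
    · have : (0 : ℚ) < d3 + -1 := by
        rcases eq_or_lt_of_le p3 with h | h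
        · exact absurd (by simp [hαdef, ← h]) hα0
        · linarith
      rw [le_div_iff₀ this]; linarith
  have f4 : (1 : ℚ) < d4 / (d4 + -1) := by
    have : (0 : ℚ) < d4 + -1 := by
      rcases eq_or_lt_of_le p4 with h | h
      · exact absurd (by simp [hαdef, ← h]) hα0
      · linarith
    rw [one_lt_div this]; linarith
  have hα : (1 / 4 : ℚ) < α := by
    have e : α = d2 / (d2 + 1) * (d3 / (d3 + ε)) * (d4 / (d4 + -1)) := by
      rw [hαdef, div_mul_div_comm, div_mul_div_comm]; push_cast; rfl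
    have h23 : (1 / 4 : ℚ) ≤ d2 / (d2 + 1) * (d3 / (d3 + ε)) := by nlinarith
    rw [e]
    nlinarith
  have hl1 : l = 1 := by
    by_contra hne
    have hl2 : (2 : ℚ) ≤ l := by
      have : 2 ≤ l := by omega
      exact_mod_cast this
    have h2 : 2 * (l : ℚ) ^ 2 ≤ 8 * α * (l : ℚ) ^ 2 :=
      mul_le_mul_of_nonneg_right (by linarith) (sq_nonneg _)
    nlinarith
  rw [hl, hl1, mul_one]

/-- The half of `C(a₀) ∩ C(b₀)`, and `n = b`. -/
theorem exists_core_half (hperf : commutator G = ⊤) {b₀ : G} (hb : b₀ ∈ fixPart w (x * w))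
    (hb1 : b₀ ≠ 1) :
    nVal w x a₀ = Nat.card (fixPart w (x * w)) ∧
      ∃ N : Subgroup G,
        (∀ g, g ∈ N ↔ g ∈ centralizer ({a₀} : Set G) ∧ g ∈ centralizer ({b₀} : Set G) ∧
          Odd (orderOf g)) ∧
        Nat.card N = Nat.card (fixPart w x) *
          Nat.card (fixPart w (x * w)) * (nVal w x a₀ * nVal w x a₀) := by
  classical
  haveI : Fact (Nat.Prime 2) := ⟨Nat.prime_two⟩
  set H₂ := centralizer ({a₀} : Set G) ⊓ centralizer ({b₀} : Set G) with hH2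
  set y := x * w with hy
  set A := Nat.card (fixPart w x)
  set B := Nat.card (fixPart w y) with hBdef
  set n := nVal w x a₀
  have hyt : y * w ^ 2 = w ^ 2 * y := c.swap.x_comm_t
  have htb : w ^ 2 ∈ centralizer ({b₀} : Set G) :=
    mem_centralizer_singleton_iff.2 (c.comm_t hb.1).symm
  have hcoreH2 : core w ≤ H₂ :=
    le_inf (c.core_le_cent ha) fun z hz => mem_centralizer_singleton_iff.2 (c.comm_core hz hb.1)
  have htcore : w ^ 2 ∉ core w := fun h =>
    c.t_ne (c.eq_one_of_P (pow_mem c.dih.σ_mem 2) h)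
  have hxb : x * b₀ * x⁻¹ = b₀⁻¹ := (c.y_fix hb).2
  have hyb : y * b₀ * y⁻¹ = b₀ := (c.y_fix hb).1
  have hxbC : x ∉ centralizer ({b₀} : Set G) := not_both (c.ne_inv hb.1 hb1) hxb
  have hCt : Nat.card ↥(H₂ ⊓ centralizer ({w ^ 2} : Set G)) = 2 * (A * B) := by
    rw [← c.card_core]
    refine card_eq_two_mul (le_inf hcoreH2 (fun z hz => mem_centralizer_singleton_iff.2
      (c.comm_t hz))) (w := w ^ 2) ⟨⟨c.t_cent ha, htb⟩, mem_centralizer_singleton_iff.2 rfl⟩
      htcore fun g hg => ?_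
    obtain ⟨v, hv, z, hz, rfl⟩ := c.decomp_cent_t ha ha1
      (mem_centralizer_singleton_iff.1 hg.2) hg.1.1
    have hvb : v ∈ centralizer ({b₀} : Set G) :=
      (mul_mem_cancel_right (mem_inf.1 (hcoreH2 hz)).2).1 (mem_inf.1 (mem_inf.1 hg).1).2
    rcases hv with rfl | rfl | rfl | rfl
    · left; first | rwa [one_mul] | rwa [inv_mul_cancel_left]
    · right; rwa [inv_mul_cancel_left]
    · exact absurd hvb hxbC
    · exact absurd ((mul_mem_cancel_right htb).1 hvb) hxbC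
  have heven : 2 ∣ Nat.card H₂ := by
    have := Subgroup.orderOf_dvd_natCard H₂ (show w ^ 2 ∈ H₂ from ⟨c.t_cent ha, htb⟩)
    rwa [c.t_order] at this
  have h4 : ¬ 4 ∣ Nat.card H₂ := by
    intro h
    let T : H₂ := ⟨w ^ 2, c.t_cent ha, htb⟩
    obtain ⟨K, hK, hTK⟩ := Sylow.exists_subgroup_card_pow_succ (G := H₂) (p := 2) (n := 1)
      (by norm_num; exact h) (H := zpowers T)
      (by rw [Nat.card_zpowers, ← Subgroup.orderOf_coe, c.t_order, pow_one])
    have hKle : K.map H₂.subtype ≤ H₂ ⊓ centralizer ({w ^ 2} : Set G) := by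
      rintro _ ⟨k, hk, rfl⟩
      refine ⟨k.2, mem_centralizer_singleton_iff.2 ?_⟩
      exact congrArg (fun z : K => ((z : H₂) : G))
        (IsPGroup.commutative_of_card_eq_prime_sq (p := 2) hK ⟨k, hk⟩ ⟨T, hTK (mem_zpowers T)⟩)
    have h4' := card_dvd_of_le hKle
    rw [card_map_of_injective H₂.subtype_injective, hK, hCt] at h4'
    have hAB : Odd (A * B) := by
      show Odd (Nat.card (fixPart w x) * Nat.card (fixPart w y))
      rw [← c.card_core]; exact c.odd_core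
    rw [Nat.odd_iff] at hAB
    omega
  obtain ⟨m, hm⟩ := heven
  obtain ⟨N, hNc, hNle, hN⟩ := exists_half hm (by rw [Nat.odd_iff]; omega)
  have hNmem : ∀ g, g ∈ N ↔ g ∈ centralizer ({a₀} : Set G) ∧ g ∈ centralizer ({b₀} : Set G) ∧
      Odd (orderOf g) := fun g => by
    refine ⟨fun h => ⟨(hNle h).1, (hNle h).2, (hN g (hNle h)).1 h⟩, fun ⟨h1, h2, h3⟩ => ?_⟩
    exact (hN g ⟨h1, h2⟩).2 h3
  have hNodd : Odd (Nat.card N) := by rw [hNc, Nat.odd_iff]; omega
  have hNnorm : ∀ g : G, g ∈ signCent a₀ → g ∈ signCent b₀ → ∀ z ∈ N, g * z * g⁻¹ ∈ N := by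
    intro g hga hgb z hz
    rw [hNmem] at hz ⊢
    exact ⟨conj_mem_cent hga hz.1, conj_mem_cent hgb hz.2.1, by
      rw [orderOf_conjugate]; exact hz.2.2⟩
  have hNt : N ⊓ centralizer ({w ^ 2} : Set G) = core w := by
    ext z
    rw [mem_inf, hNmem, mem_centralizer_singleton_iff (k := z) (g := w ^ 2)]
    refine ⟨fun h => c.mem_core_of_odd h.2 h.1.2.2, fun h => ⟨⟨?_, ?_, c.odd_order h⟩, c.comm_t h⟩⟩
    exacts [(hcoreH2 h).1, (hcoreH2 h).2]
  have hb_odd : b₀ ∈ oddSub y := (c.mem_oddSub c.swap.x_order).2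
    ⟨mem_centralizer_singleton_iff.1 hb.2, c.odd_order hb.1⟩
  have hNy : N ⊓ centralizer ({y} : Set G) = Lsub w x a₀ := by
    ext z
    rw [mem_inf, hNmem, mem_inf, c.mem_oddSub c.swap.x_order,
      mem_centralizer_singleton_iff (k := z) (g := y)]
    refine ⟨fun h => ⟨⟨h.2, h.1.2.2⟩, h.1.1⟩, fun h => ⟨⟨h.2, ?_, h.1.2⟩, h.1.1⟩⟩
    exact mem_centralizer_singleton_iff.2
      (c.comm_oddSub c.swap.x_order ((c.mem_oddSub c.swap.x_order).2 h.1) hb_odd)
  have hxa : x ∈ signCent a₀ := cent_le_signCent _ (c.x_cent ha)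
  have hxb' : x ∈ signCent b₀ := Or.inr hxb
  have hNty : Nat.card ↥(N ⊓ centralizer ({w ^ 2 * y} : Set G)) = n * B := by
    rw [← c.card_Lsub ha ha1, ← hNy]
    have hN' : ∀ z ∈ N, x * z * x⁻¹ ∈ N := hNnorm x hxa hxb'
    have e1 : x * (w ^ 2 * y) * x⁻¹ = y := by
      rw [← hyt, ← mul_assoc, show x * y = w by rw [hy, ← mul_assoc, c.xx, one_mul], mul_assoc,
        c.x_inv, ← c.x_comm_t, ← mul_assoc, c.wx_eq, mul_assoc, c.tt, mul_one]
    refine Nat.card_congr ⟨fun z => ⟨x * (z : G) * x⁻¹, hN' _ z.2.1,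
      mem_centralizer_singleton_iff.2 ?_⟩, fun z => ⟨x * (z : G) * x⁻¹, hN' _ z.2.1,
      mem_centralizer_singleton_iff.2 ?_⟩, fun z => Subtype.ext ?_, fun z => Subtype.ext ?_⟩
    · have hz := mem_centralizer_singleton_iff.1 z.2.2
      calc x * (z : G) * x⁻¹ * y = x * (z : G) * x⁻¹ * (x * (w ^ 2 * y) * x⁻¹) := by rw [e1]
        _ = x * ((z : G) * (w ^ 2 * y)) * x⁻¹ := by group
        _ = x * (w ^ 2 * y) * x⁻¹ * (x * (z : G) * x⁻¹) := by rw [hz]; group
        _ = y * (x * (z : G) * x⁻¹) := by rw [e1]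
    · have hz := mem_centralizer_singleton_iff.1 z.2.2
      have e2 : x * y * x⁻¹ = w ^ 2 * y := by rw [← hyt]; exact c.x_conj_y
      rw [← e2]
      calc x * (z : G) * x⁻¹ * (x * y * x⁻¹) = x * ((z : G) * y) * x⁻¹ := by group
        _ = x * y * x⁻¹ * (x * (z : G) * x⁻¹) := by rw [hz]; group
    · show x * (x * (z : G) * x⁻¹) * x⁻¹ = z
      rw [c.x_inv, show x * (x * (z : G) * x) * x = x * x * z * (x * x) by group, c.xx, one_mul,
        mul_one]
    · show x * (x * (z : G) * x⁻¹) * x⁻¹ = z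
      rw [c.x_inv, show x * (x * (z : G) * x) * x = x * x * z * (x * x) by group, c.xx, one_mul,
        mul_one]
  have hNtt : N ⊓ centralizer ({w ^ 2, y} : Set G) = fixPart w y := by
    ext z
    have : z ∈ centralizer ({w ^ 2, y} : Set G) ↔ z * w ^ 2 = w ^ 2 * z ∧ z * y = y * z := by
      simp only [mem_centralizer_iff, Set.mem_insert_iff, Set.mem_singleton_iff, forall_eq_or_imp,
        forall_eq, eq_comm]
    rw [mem_inf, this, hNmem, mem_inf, mem_centralizer_singleton_iff (k := z) (g := y)]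
    refine ⟨fun h => ⟨c.mem_core_of_odd h.2.1 h.1.2.2, h.2.2⟩, fun h => ⟨⟨?_, ?_, c.odd_order h.1⟩,
      c.comm_t h.1, h.2⟩⟩
    exacts [(hcoreH2 h.1).1, (hcoreH2 h.1).2]
  have hfour := four_card N hNodd (s := w ^ 2) (u := y) c.tt c.y_sq hyt.symm c.t_ne c.swap.x_ne
    c.swap.x_ne_t.symm
    (hNnorm _ (cent_le_signCent _ (c.t_cent ha)) (cent_le_signCent _ htb))
    (hNnorm _ (c.y_sign ha) (Or.inl hyb))
  rw [hNt, hNy, hNty, hNtt, c.card_core, c.card_Lsub ha ha1, ← hBdef] at hfour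
  have hBpos : 0 < B := Nat.card_pos
  have hNcard : Nat.card N = A * B * (n * n) := by
    refine Nat.eq_of_mul_eq_mul_left (pow_pos hBpos 2) ?_
    rw [← hfour]; ring
  refine ⟨c.nVal_eq_of_dvd ha ha1 hperf ?_, N, hNmem, hNcard⟩
  have hdvd : Nat.card N ∣ Nat.card (centralizer ({a₀} : Set G)) :=
    card_dvd_of_le fun g hg => ((hNmem g).1 hg).1
  rw [c.card_cent ha ha1 hperf, hNcard] at hdvd
  have hpos : 0 < A * B * n := Nat.mul_pos (Nat.mul_pos Nat.card_pos hBpos) (c.nVal_odd ha ha1).pos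
  rw [show A * B * (n * n) = A * B * n * n by ring,
    show 4 * (A * B) * (n * (2 * B + n)) = A * B * n * (8 * B + 4 * n) by ring] at hdvd
  have h8 : n ∣ 8 * B :=
    (Nat.dvd_add_left (Dvd.intro_left 4 rfl)).1 (Nat.dvd_of_mul_dvd_mul_left hpos hdvd)
  refine Nat.Coprime.dvd_of_dvd_mul_left ?_ h8
  rw [show (8 : ℕ) = 2 ^ 3 from rfl]
  exact Nat.Coprime.pow_right 3 (Nat.coprime_two_right.2 (c.nVal_odd ha ha1))

end Conf

end Cfsg.Agent.Lib.CentFour74
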