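import Mathlib

/-!
# The arithmetic of the two order formulas
-/

set_option autoImplicit false

namespace Cfsg.Agent.Lib.CentFour74

/-- The relations in `C(a)` force `n = b`. -/
theorem eq_of_relations {n b m f : ℕ} (hn : Odd n) (hb : 0 < b) (hf : f % 4 = 3)
    (hdiv : n ∣ 4 * (2 * b + n)) (e1 : 4 * b = m * (f + 1))
    (e2 : 2 * n * (2 * b + n) = m ^ 2 * f * (f - 1)) : n = b := by
  have hn0 : 0 < n := hn.pos
  have h8 : n ∣ 8 * b := by
    rw [show 4 * (2 * b + n) = 8 * b + 4 * n by ring] at hdiv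
    exact (Nat.dvd_add_left (Dvd.intro_left 4 rfl)).1 hdiv
  have hcop : Nat.Coprime n 8 := by
    rw [show (8 : ℕ) = 2 ^ 3 from rfl]
    exact Nat.Coprime.pow_right 3 (Nat.coprime_two_right.2 hn)
  obtain ⟨l, rfl⟩ := hcop.dvd_of_dvd_mul_left h8
  obtain ⟨i, rfl⟩ : ∃ i, f = 4 * i + 3 := ⟨f / 4, by omega⟩
  have hl : 0 < l := Nat.pos_of_mul_pos_left hb
  have h1 : n * l = m * (i + 1) := by
    have : 4 * (n * l) = 4 * (m * (i + 1)) := by rw [e1]; ring
    omega
  have h2 : n ^ 2 * (2 * l + 1) = m ^ 2 * ((4 * i + 3) * (2 * i + 1)) := by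
    have : 2 * (n ^ 2 * (2 * l + 1)) = 2 * (m ^ 2 * ((4 * i + 3) * (2 * i + 1))) := by
      calc 2 * (n ^ 2 * (2 * l + 1)) = 2 * n * (2 * (n * l) + n) := by ring
        _ = m ^ 2 * (4 * i + 3) * (4 * i + 2) := by
          rw [e2, show 4 * i + 3 - 1 = 4 * i + 2 by omega]
        _ = _ := by ring
    omega
  have hm : 0 < m := by
    rcases Nat.eq_zero_or_pos m with rfl | h
    · simp only [zero_mul] at h1
      rcases Nat.mul_eq_zero.1 h1 with h | h <;> omega
    · exact h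
  have h3 : (i + 1) ^ 2 * (2 * l + 1) = l ^ 2 * ((4 * i + 3) * (2 * i + 1)) := by
    refine Nat.eq_of_mul_eq_mul_left (pow_pos hm 2) ?_
    calc m ^ 2 * ((i + 1) ^ 2 * (2 * l + 1)) = (m * (i + 1)) ^ 2 * (2 * l + 1) := by ring
      _ = l ^ 2 * (n ^ 2 * (2 * l + 1)) := by rw [← h1]; ring
      _ = _ := by rw [h2]; ring
  have c1 : Nat.Coprime ((i + 1) ^ 2) ((4 * i + 3) * (2 * i + 1)) := by
    refine Nat.Coprime.pow_left 2 (Nat.Coprime.mul_right ?_ ?_)
    · refine Nat.isCoprime_iff_coprime.1 ⟨4, -1, ?_⟩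
      push_cast; ring
    · refine Nat.isCoprime_iff_coprime.1 ⟨2, -1, ?_⟩
      push_cast; ring
  have c2 : Nat.Coprime (l ^ 2) (2 * l + 1) := by
    refine Nat.Coprime.pow_left 2 (Nat.isCoprime_iff_coprime.1 ⟨-2, 1, ?_⟩)
    push_cast; ring
  have hd1 : (i + 1) ^ 2 ∣ l ^ 2 := c1.dvd_of_dvd_mul_right (h3 ▸ Dvd.intro _ rfl)
  have hd2 : l ^ 2 ∣ (i + 1) ^ 2 := c2.dvd_of_dvd_mul_right (h3 ▸ Dvd.intro _ rfl)
  have hl' : i + 1 = l := Nat.pow_left_injective (by norm_num) (Nat.dvd_antisymm hd1 hd2)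
  subst hl'
  have h4 : 2 * (i + 1) + 1 = (4 * i + 3) * (2 * i + 1) :=
    Nat.eq_of_mul_eq_mul_left (pow_pos hl 2) h3
  have h5 : (4 * i + 3) * (2 * i + 1) = 8 * (i * i) + 10 * i + 3 := by ring
  have hi : i = 0 := by omega
  rw [hi, zero_add, mul_one]

/-- One candidate of the search. -/
def sieveOne (a h : ℕ) (plus : Bool) : Bool :=
  let f := if plus then 2 * h + 1 else 2 * h - 1
  let f' := if plus then 2 * h + 2 else 2 * h - 2
  let num := 64 * f * f' * a * (a + 1) ^ 2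
  if num % (4 * h * h) != 0 then true
  else
    let N := num / (4 * h * h)
    if N % 16 != 8 then true
    else
      let D : ℤ := 256 * (a : ℤ) ^ 2 * f - N * f'
      if ((N : ℤ) * f * f') % D != 0 then true
      else (a == 3 && N == 2520) || (a == 5 && N == 7560)

/-- Both signs. -/
def sieve (a h : ℕ) : Bool :=
  if (64 * a * (a + 1) ^ 2) % (h * h) != 0 then true else sieveOne a h true && sieveOne a h false

theorem sieve_all : ((List.range 14).all fun i => (List.range 1300).all fun h => sieve (2 * i + 3) h) = true := by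
  decide +kernel

theorem sieve_spec {a h : ℕ} (ha : 3 ≤ a) (hao : Odd a) (ha' : a ≤ 29) (hh : h < 1300) :
    sieve a h = true := by
  obtain ⟨k, rfl⟩ := hao
  have h1 := List.all_eq_true.1 sieve_all (k - 1) (List.mem_range.2 (by omega))
  have h2 := List.all_eq_true.1 h1 h (List.mem_range.2 hh)
  rwa [show 2 * (k - 1) + 3 = 2 * k + 1 by omega] at h2

/-- The ratio of the order formulas is at least `1/3`. -/
theorem third_le {f δ u v : ℤ} (hδ : δ = 1 ∨ δ = -1) (hf : 3 ≤ f) (hu : 3 ≤ |u|) (hv : 3 ≤ |v|)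
    (huv : u + v = -(1 + δ * f)) :
    (1 : ℚ) / 3 ≤ 1 + (δ : ℚ) / f + 1 / (u : ℚ) + 1 / (v : ℚ) := by
  have hf' : (3 : ℚ) ≤ f := by exact_mod_cast hf
  have hf1 : (1 : ℚ) / f ≤ 1 / 3 := div_le_div_of_nonneg_left (by norm_num) (by norm_num) hf'
  have hlow : ∀ z : ℤ, 3 ≤ |z| → -(1 / 3 : ℚ) ≤ 1 / (z : ℚ) := by
    intro z hz
    rcases le_abs.1 hz with h | h
    · have : (0 : ℚ) ≤ 1 / (z : ℚ) := by
        have : (0 : ℚ) ≤ z := by exact_mod_cast (by omega : (0 : ℤ) ≤ z)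
        positivity
      linarith
    · have h' : (3 : ℚ) ≤ -z := by exact_mod_cast h
      have : (1 : ℚ) / (-z) ≤ 1 / 3 := div_le_div_of_nonneg_left (by norm_num) (by norm_num) h'
      rw [div_neg] at this
      linarith
  have hpos : ∀ z : ℤ, 0 < z → (0 : ℚ) ≤ 1 / (z : ℚ) := fun z hz => by
    have : (0 : ℚ) ≤ z := by exact_mod_cast hz.le
    positivity
  rcases hδ with rfl | rfl
  · have := hlow u hu
    have := hlow v hv
    have : (0 : ℚ) ≤ 1 / (f : ℚ) := by positivity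
    push_cast
    linarith
  · have hp : 0 < u ∨ 0 < v := by omega
    push_cast
    rw [neg_div]
    rcases hp with h | h
    · have := hpos u h
      have := hlow v hv
      linarith
    · have := hpos v h
      have := hlow u hu
      linarith

/-- The two formulas with `b = 1` leave two orders. -/
theorem candidates {a N : ℕ} {f δ u v : ℤ} (ha : 3 ≤ a) (hao : Odd a) (hN : N % 16 = 8)
    (hδ : δ = 1 ∨ δ = -1) (hf : 3 ≤ f) (hfo : Odd f) (hu : 3 ≤ |u|) (hv : 3 ≤ |v|)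
    (huv : u + v = -(1 + δ * f))
    (e1 : (N : ℤ) * (f - δ) ^ 2 = 64 * f * (f + δ) * (a * (a + 1) ^ 2))
    (e2 : (N : ℚ) * (1 + (δ : ℚ) / f + 1 / (u : ℚ) + 1 / (v : ℚ)) = 256 * (a : ℚ) ^ 2) :
    (a = 3 ∧ N = 2520) ∨ (a = 5 ∧ N = 7560) := by
  have hdd : δ * δ = 1 := by rcases hδ with rfl | rfl <;> norm_num
  have hu0 : u ≠ 0 := fun h => by rw [h, abs_zero] at hu; omega
  have hv0 : v ≠ 0 := fun h => by rw [h, abs_zero] at hv; omega
  -- the bound on `a`
  have hN' : (N : ℚ) ≤ 768 * (a : ℚ) ^ 2 := by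
    have h := mul_le_mul_of_nonneg_left (third_le hδ hf hu hv huv) (Nat.cast_nonneg (α := ℚ) N)
    rw [e2] at h
    linarith
  have hN'' : (N : ℤ) ≤ 768 * (a : ℤ) ^ 2 := by exact_mod_cast hN'
  have hr : 3 * (f - δ) ^ 2 ≤ 8 * (f * (f + δ)) := by
    rcases hδ with rfl | rfl <;> nlinarith
  have hsq : ((a : ℤ) + 1) ^ 2 ≤ 32 * a := by
    have hg : 0 < (f - δ) ^ 2 := pow_pos (by omega) 2
    have h1 : 24 * ((a : ℤ) * (a + 1) ^ 2) * (f - δ) ^ 2 ≤ N * (f - δ) ^ 2 := by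
      rw [e1]
      have h0 : 0 ≤ (a : ℤ) * (a + 1) ^ 2 := by positivity
      nlinarith [mul_le_mul_of_nonneg_left hr (by positivity : 0 ≤ 8 * ((a : ℤ) * (a + 1) ^ 2))]
    have h2 := (le_of_mul_le_mul_right h1 hg).trans hN''
    have ha0 : (0 : ℤ) < 24 * a := by omega
    refine le_of_mul_le_mul_left ?_ ha0
    linarith
  have ha29 : a ≤ 29 := by
    by_contra h
    have : (30 : ℤ) ≤ a := by omega
    nlinarith
  -- the divisor `f - δ`
  obtain ⟨g, hg, hge⟩ : ∃ g : ℕ, f - δ = g ∧ 2 ∣ g := by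
    refine ⟨(f - δ).toNat, (Int.toNat_of_nonneg (by omega)).symm, ?_⟩
    obtain ⟨k, hk⟩ := hfo
    omega
  obtain ⟨h, rfl⟩ := hge
  have hdvd : ((2 * h : ℕ) : ℤ) ^ 2 ∣ 256 * ((a : ℤ) * (a + 1) ^ 2) := by
    have h1 : (f - δ) ^ 2 ∣ 64 * ((a : ℤ) * (a + 1) ^ 2) * (3 * δ * (f - δ) + 2) := by
      refine ⟨(N : ℤ) - 64 * ((a : ℤ) * (a + 1) ^ 2), ?_⟩
      have : f * (f + δ) = (f - δ) ^ 2 + 3 * δ * (f - δ) + 2 := by linear_combination (2 : ℤ) * hdd
      linear_combination (-1 : ℤ) * e1 - 64 * ((a : ℤ) * (a + 1) ^ 2) * this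
    have h2 := h1.mul_right (3 * δ * (f - δ) - 2)
    have h3 : 64 * ((a : ℤ) * (a + 1) ^ 2) * (3 * δ * (f - δ) + 2) * (3 * δ * (f - δ) - 2) =
        (f - δ) ^ 2 * (576 * ((a : ℤ) * (a + 1) ^ 2)) - 256 * ((a : ℤ) * (a + 1) ^ 2) := by
      linear_combination 576 * ((a : ℤ) * (a + 1) ^ 2) * (f - δ) ^ 2 * hdd
    rw [h3] at h2
    rw [← hg]
    exact (dvd_sub_right (Dvd.intro _ rfl)).1 h2
  have hdvd' : h * h ∣ 64 * a * (a + 1) ^ 2 := by
    have h1 : (2 * h) ^ 2 ∣ 256 * (a * (a + 1) ^ 2) := by exact_mod_cast hdvd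
    rw [show (2 * h) ^ 2 = 4 * (h * h) by ring,
      show 256 * (a * (a + 1) ^ 2) = 4 * (64 * a * (a + 1) ^ 2) by ring] at h1
    exact (Nat.mul_dvd_mul_iff_left (by norm_num : 0 < 4)).1 h1
  have hh0 : 0 < h := by rcases hδ with rfl | rfl <;> omega
  have hh : h < 1300 := by
    have h1 := Nat.le_of_dvd (by positivity) hdvd'
    have h2 : 64 * a * (a + 1) ^ 2 ≤ 64 * 29 * 30 ^ 2 := by gcongr; omega
    by_contra hc
    have : 1300 * 1300 ≤ h * h := Nat.mul_le_mul (by omega) (by omega)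
    omega
  -- the divisibility
  have hdiv : (256 * (a : ℤ) ^ 2 * f - N * (f + δ)) ∣ (N : ℤ) * f * (f + δ) := by
    refine ⟨-(δ * (u * v)) * 1, ?_⟩
    have hfq : (f : ℚ) ≠ 0 := by exact_mod_cast (by omega : f ≠ 0)
    have huq : (u : ℚ) ≠ 0 := by exact_mod_cast hu0
    have hvq : (v : ℚ) ≠ 0 := by exact_mod_cast hv0
    have e2' : (N : ℤ) * (f * u * v + δ * u * v + f * v + f * u) = 256 * (a : ℤ) ^ 2 * (f * u * v) := by
      have h := e2
      field_simp at h
      have h' : (N : ℚ) * ((f : ℚ) * u * v + δ * u * v + f * v + f * u) =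
          256 * (a : ℚ) ^ 2 * (f * u * v) := by linear_combination h
      exact_mod_cast h'
    linear_combination (-δ) * e2' + (δ : ℤ) * (N : ℤ) * f * huv - (N : ℤ) * f * f * hdd
  have key := sieve_spec ha hao ha29 hh
  unfold sieve at key
  rw [Nat.mod_eq_zero_of_dvd hdvd'] at key
  simp only [bne_self_eq_false, Bool.false_eq_true, if_false, Bool.and_eq_true] at key
  have main : ∀ (plus : Bool) (F F' : ℕ), F = (if plus then 2 * h + 1 else 2 * h - 1) →
      F' = (if plus then 2 * h + 2 else 2 * h - 2) → (F : ℤ) = f → (F' : ℤ) = f + δ →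
      sieveOne a h plus = true → (a = 3 ∧ N = 2520) ∨ (a = 5 ∧ N = 7560) := by
    intro plus F F' hF hF' hFf hFf' hk
    have hnum : 64 * F * F' * a * (a + 1) ^ 2 = N * (4 * h * h) := by
      have : ((64 * F * F' * a * (a + 1) ^ 2 : ℕ) : ℤ) = ((N * (4 * h * h) : ℕ) : ℤ) := by
        push_cast
        rw [hFf, hFf']
        rw [hg] at e1
        push_cast at e1
        linear_combination (-1 : ℤ) * e1
      exact_mod_cast this
    unfold sieveOne at hk
    simp only [← hF, ← hF', hnum] at hk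
    rw [Nat.mul_mod_left, Nat.mul_div_cancel _ (by positivity)] at hk
    simp only [bne_self_eq_false, Bool.false_eq_true, if_false, hN, hFf, hFf',
      Int.emod_eq_zero_of_dvd hdiv] at hk
    simpa using hk
  rcases hδ with rfl | rfl
  · exact main true (2 * h + 1) (2 * h + 2) rfl rfl (by push_cast at hg ⊢; omega)
      (by push_cast at hg ⊢; omega) key.1
  · exact main false (2 * h - 1) (2 * h - 2) rfl rfl (by push_cast at hg ⊢; omega)
      (by push_cast at hg ⊢; omega) key.2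

end Cfsg.Agent.Lib.CentFour74
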