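import Cfsg.Agent.Lib.CentFour74.Basic
import Cfsg.Agent.Lib.CentFour74.Four
import Cfsg.Agent.Lib.BSW.Main
import Cfsg.Agent.Lib.MaxClass.SmallCentralizer
import Cfsg.Agent.Lib.TwoGroup.QDCases
import Cfsg.Agent.S0112
import Cfsg.Agent.S0115
import Cfsg.Agent.S4399
import Cfsg.Agent.S0201
import Cfsg.Agent.S0493
import Cfsg.Agent.S0494
import Cfsg.Agent.S3331

/-!
# Reduction to an element of order 4 with dihedral Sylow 2-subgroups of order 8
-/

set_option autoImplicit false
set_option linter.unusedSectionVars false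

namespace Cfsg.Agent.Lib.CentFour74

open Subgroup
open Cfsg
open Cfsg.Agent.Lib Cfsg.Agent.Lib.DihedralBlock

universe u

variable {G : Type u} [Group G] [Finite G] [IsSimpleGroup G]

theorem no_index_two (hG : ¬ IsCyclic G) (M : Subgroup G) : M.index ≠ 2 := by
  intro hM
  haveI := Subgroup.normal_of_index_eq_two hM
  rcases IsSimpleGroup.eq_bot_or_eq_top_of_normal M inferInstance with h | h
  · rw [h, index_bot] at hM
    haveI : Fact (Nat.Prime 2) := ⟨Nat.prime_two⟩
    exact hG (isCyclic_of_prime_card hM)
  · rw [h, index_top] at hM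
    omega

theorem center_eq_bot (hG : ¬ IsCyclic G) : center G = ⊥ := by
  refine (IsSimpleGroup.eq_bot_or_eq_top_of_normal (center G) inferInstance).resolve_right ?_
  intro h
  letI : CommGroup G :=
    { ‹Group G› with mul_comm := fun a b => (mem_center_iff.1 (h ▸ mem_top b) a) }
  exact hG IsSimpleGroup.isCyclic

theorem commutator_eq_top (hG : ¬ IsCyclic G) : commutator G = ⊤ := by
  refine (IsSimpleGroup.eq_bot_or_eq_top_of_normal (commutator G) inferInstance).resolve_left ?_
  intro h
  have hc := (commutator_eq_bot_iff_center_eq_top (G := G)).1 h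
  rw [center_eq_bot hG] at hc
  exact bot_ne_top hc

theorem card_centralizer_congr {a b : G} (h : IsConj a b) :
    Nat.card (centralizer ({a} : Set G)) = Nat.card (centralizer ({b} : Set G)) := by
  obtain ⟨g, rfl⟩ := isConj_iff.1 h
  rw [show Nat.card (centralizer ({a} : Set G)) =
      Nat.card ((centralizer ({a} : Set G)).map (MulAut.conj g).toMonoidHom) from
    (card_map_of_injective (MulAut.conj g).injective).symm]
  congr 2
  ext z
  rw [mem_map_equiv, MulAut.conj_symm_apply, mem_centralizer_singleton_iff,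
    mem_centralizer_singleton_iff]
  constructor
  · intro h
    calc z * (g * a * g⁻¹) = g * (g⁻¹ * z * g * a) * g⁻¹ := by group
      _ = g * a * g⁻¹ * z := by rw [h]; group
  · intro h
    calc g⁻¹ * z * g * a = g⁻¹ * (z * (g * a * g⁻¹)) * g := by group
      _ = a * (g⁻¹ * z * g) := by rw [h]; group

theorem centralizer_zpowers (w : G) :
    centralizer (zpowers w : Set G) = centralizer ({w} : Set G) := by
  rw [zpowers_eq_closure, centralizer_closure]

/-- An element of order 3 generating its centraliser. -/
theorem of_order_three (hG : ¬ IsCyclic G) {w : G} (hw : orderOf w = 3)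
    (hC : Nat.card (centralizer ({w} : Set G)) ≤ 4) :
    Nonempty (G ≃* alternatingGroup (Fin 5)) ∨
      Nonempty (G ≃* Matrix.ProjectiveSpecialLinearGroup (Fin 2) (ZMod 7)) := by
  have hle : zpowers w ≤ centralizer ({w} : Set G) :=
    zpowers_le.2 (mem_centralizer_singleton_iff.2 rfl)
  have hcard : Nat.card (zpowers w) = 3 := by rw [Nat.card_zpowers, hw]
  have hCeq : centralizer (zpowers w : Set G) = zpowers w := by
    rw [centralizer_zpowers]
    refine (eq_of_le_of_card_ge hle ?_).symm
    obtain ⟨k, hk⟩ := hcard ▸ card_dvd_of_le hle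
    omega
  have hsmall : Nat.card G ≤ 100 → Nat.card G = 60 := Cfsg.Agent.S0493.result hG
  rcases Cfsg.Agent.S3331.result (zpowers w) hcard hCeq with
    ⟨N, hN, -, -, h⟩ | ⟨N, hN, -, -, ⟨e⟩⟩ | h
  · exfalso
    haveI := hN
    have hidx : Nat.card (G ⧸ N) = 3 ∨ Nat.card (G ⧸ N) = 6 := by
      refine h.imp id fun ⟨e⟩ => ?_
      rw [Nat.card_congr e.toEquiv, Nat.card_perm, Nat.card_fin]
      rfl
    rcases IsSimpleGroup.eq_bot_or_eq_top_of_normal N hN with hb | ht
    · subst hb
      rw [Nat.card_congr (QuotientGroup.quotientBot (G := G)).toEquiv] at hidx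
      have := hsmall (by omega)
      omega
    · rw [← Subgroup.index, ht, index_top] at hidx
      omega
  · haveI := hN
    rcases IsSimpleGroup.eq_bot_or_eq_top_of_normal N hN with hb | ht
    · subst hb
      exact Or.inl ⟨QuotientGroup.quotientBot.symm.trans e⟩
    · exfalso
      have hc := Nat.card_congr e.toEquiv
      rw [← Subgroup.index, ht, index_top, nat_card_alternatingGroup, Nat.card_fin] at hc
      simp [Nat.factorial] at hc
  · exact Or.inr h

/-- An involution with small centraliser. -/
theorem of_order_two (hG : ¬ IsCyclic G) {w : G} (hw : orderOf w = 2)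
    (hC : Nat.card (centralizer ({w} : Set G)) ≤ 4) :
    Nonempty (G ≃* alternatingGroup (Fin 5)) := by
  classical
  haveI : Fact (Nat.Prime 2) := ⟨Nat.prime_two⟩
  have hww : w * w = 1 := by rw [← pow_two, ← hw, pow_orderOf_eq_one]
  have hp : IsPGroup 2 (zpowers w) := IsPGroup.of_card (n := 1) (by rw [Nat.card_zpowers, hw, pow_one])
  obtain ⟨S, hS⟩ := hp.exists_le_sylow
  have hwS : w ∈ (S : Subgroup G) := hS (mem_zpowers w)
  have hwC : w ∈ centralizer ({w} : Set G) := mem_centralizer_singleton_iff.2 rfl
  obtain ⟨k, hk⟩ := IsPGroup.iff_card.1 S.2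
  have h2S : 2 ∣ Nat.card (S : Subgroup G) := 
    hw.symm.dvd.trans (Subgroup.orderOf_dvd_natCard _ hwS)
  have heven : Even (Nat.card G) :=
    even_iff_two_dvd.2 (h2S.trans (card_subgroup_dvd_card _))
  have hncyc : ¬ IsCyclic (S : Subgroup G) := fun h => by
    obtain ⟨M, -, hM⟩ := Involution.exists_index_two_of_isCyclic_sylow heven S h
    exact no_index_two hG M hM
  have hk2 : 2 ≤ k := by
    by_contra hk'
    rcases k with _ | _ | k
    · rw [hk] at h2S; norm_num at h2S
    · exact hncyc (isCyclic_of_prime_card (p := 2) (by rw [hk]; norm_num))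
    · omega
  rcases Nat.lt_or_ge 2 k with hk3 | hk3
  · -- a reflection, which transfer makes conjugate to a central involution
    exfalso
    have h8 : 8 ≤ Nat.card (S : Subgroup G) := by
      rw [hk]; exact (show 2 ^ 3 = 8 by norm_num) ▸ Nat.pow_le_pow_right two_pos hk3
    set w' : (S : Subgroup G) := ⟨w, hwS⟩ with hw'
    have hw'o : orderOf w' = 2 := by rw [← Subgroup.orderOf_coe, hw']; exact hw
    obtain ⟨z, hz, hz1⟩ : ∃ z ∈ center (S : Subgroup G), z ≠ 1 := by
      haveI : Nontrivial (S : Subgroup G) := by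
        rw [← Finite.one_lt_card_iff_nontrivial]; omega
      haveI := S.2.center_nontrivial
      obtain ⟨z, hz⟩ := exists_ne (1 : center (S : Subgroup G))
      exact ⟨z, z.2, fun h => hz (Subtype.ext h)⟩
    have hCS : Nat.card (centralizer ({w'} : Set (S : Subgroup G))) ≤ 4 := by
      refine le_trans (le_of_eq_of_le (card_map_of_injective
        (S : Subgroup G).subtype_injective).symm (Nat.le_of_dvd Nat.card_pos (card_dvd_of_le ?_))) hC
      rintro _ ⟨v, hv, rfl⟩
      exact mem_centralizer_singleton_iff.2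
        (congrArg Subtype.val (mem_centralizer_singleton_iff.1 hv))
    have hzw : z ∉ zpowers w' := by
      intro h
      obtain ⟨i, rfl⟩ := mem_zpowers_iff.1 h
      have hw'w : w' * w' = 1 := Subtype.ext hww
      have hzi : w' ^ i = w' := by
        rcases Int.even_or_odd i with ⟨j, rfl⟩ | ⟨j, rfl⟩
        · exact absurd (by rw [← two_mul, zpow_mul, zpow_two, hw'w, one_zpow]) hz1
        · rw [zpow_add, zpow_one, zpow_mul, zpow_two, hw'w, one_zpow, one_mul]
      rw [hzi] at hz
      have : centralizer ({w'} : Set (S : Subgroup G)) = ⊤ := eq_top_iff.2 fun v _ =>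
        mem_centralizer_singleton_iff.2 (mem_center_iff.1 hz v)
      rw [this, Subgroup.card_top] at hCS
      omega
    have hC4 : Nat.card (centralizer ({w'} : Set (S : Subgroup G))) = 4 := by
      refine MaxClass.card_eq_four_of_card_le (S.2.to_subgroup _) rfl hCS ?_
      have hle : zpowers w' ≤ centralizer ({w'} : Set (S : Subgroup G)) :=
        zpowers_le.2 (mem_centralizer_singleton_iff.2 rfl)
      have hlt : zpowers w' < centralizer ({w'} : Set (S : Subgroup G)) := by
        refine lt_of_le_of_ne hle fun h => hzw ?_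
        rw [h]
        exact mem_centralizer_singleton_iff.2 (mem_center_iff.1 hz w').symm
      by_contra hle2
      refine absurd (eq_of_le_of_card_ge hlt.le ?_) hlt.ne
      rw [Nat.card_zpowers, hw'o]
      omega
    obtain ⟨n, a, ha, hcard, hwa, hrel⟩ :=
      (MaxClass.hasReflection_or_card_eq_four _ (S : Subgroup G) rfl S.2 w' hw'o hC4).resolve_right
        (by omega)
    set Q := (zpowers a).map (S : Subgroup G).subtype with hQ
    have hn2 : 2 ≤ n := by
      by_contra hn
      have h1 : 2 ^ (n + 1) ≤ 2 ^ 2 := Nat.pow_le_pow_right two_pos (by omega)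
      rw [← hcard] at h1
      omega
    have hQi : Q.relIndex (S : Subgroup G) = 2 := by
      have h1 := (zpowers a).card_mul_index
      rw [Nat.card_zpowers, ha, hcard, pow_succ] at h1
      have h2 : (zpowers a).index = 2 := Nat.eq_of_mul_eq_mul_left (by positivity) h1
      rw [Subgroup.relIndex, hQ, Subgroup.subgroupOf,
        Subgroup.comap_map_eq_self_of_injective (S : Subgroup G).subtype_injective, h2]
    obtain ⟨g, hg⟩ := Involution.exists_conj_mem_of_no_index_two (no_index_two hG) S Q
      (map_subtype_le _) hQi w hw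
    obtain ⟨u, hu, hug⟩ := hg
    rw [(S : Subgroup G).subtype_apply] at hug
    have hconj : IsConj w (u : G) := isConj_iff.2 ⟨g, hug.symm⟩
    have huo : orderOf u = 2 := by
      rw [← Subgroup.orderOf_coe, hug, ← hw]
      exact MulEquiv.orderOf_eq (MulAut.conj g) w
    have huu : u * u = 1 := by
      have h := pow_orderOf_eq_one u
      rwa [huo, pow_two] at h
    obtain ⟨i, rfl⟩ := mem_zpowers_iff.1 hu
    have hfix : w' * a ^ i * w'⁻¹ = a ^ i := by
      rw [← conj_zpow]
      rcases hrel with h | ⟨hn, h⟩ <;> rw [h]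
      · rw [inv_zpow]
        exact inv_eq_of_mul_eq_one_right huu
      · obtain ⟨j, hj⟩ : ∃ j, n - 1 = j + 1 := ⟨n - 2, by omega⟩
        have hev : a ^ (i * 2) = 1 := by
          rw [zpow_mul, zpow_two, huu]
        rw [← zpow_mul, hj, pow_succ, sub_mul, one_mul, zpow_sub,
          show (2 : ℤ) ^ j * 2 * i = i * 2 * 2 ^ j by ring, zpow_mul, hev, one_zpow, one_mul,
          inv_eq_of_mul_eq_one_right huu]
    have hle : (zpowers a ⊔ zpowers w') ≤ centralizer ({a ^ i} : Set (S : Subgroup G)) := by
      refine sup_le (zpowers_le.2 ?_) (zpowers_le.2 ?_) <;> rw [mem_centralizer_singleton_iff]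
      · exact (Commute.self_zpow a i).eq
      · exact mul_inv_eq_iff_eq_mul.1 hfix
    have hbig : 2 ^ n < Nat.card (centralizer ({a ^ i} : Set (S : Subgroup G))) := by
      have hle' := card_dvd_of_le (le_sup_left.trans hle)
      rw [Nat.card_zpowers, ha] at hle'
      refine lt_of_le_of_ne (Nat.le_of_dvd Nat.card_pos hle') fun he => hwa ?_
      rw [eq_of_le_of_card_ge (le_sup_left.trans hle) (by rw [Nat.card_zpowers, ha, he])]
      exact hle (mem_sup_right (mem_zpowers w'))
    have hle4 : Nat.card (centralizer ({a ^ i} : Set (S : Subgroup G))) ≤ 4 := by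
      refine le_trans (le_of_eq_of_le (card_map_of_injective
        (S : Subgroup G).subtype_injective).symm (Nat.le_of_dvd Nat.card_pos (card_dvd_of_le ?_)))
        (le_of_eq_of_le (card_centralizer_congr hconj).symm hC)
      rintro _ ⟨v, hv, rfl⟩
      exact mem_centralizer_singleton_iff.2
        (congrArg Subtype.val (mem_centralizer_singleton_iff.1 hv))
    have : 2 ^ 2 ≤ 2 ^ n := Nat.pow_le_pow_right two_pos hn2
    omega
  · -- a four-group
    have hk' : k = 2 := by omega
    subst hk'
    have hS4 : Nat.card (S : Subgroup G) = 4 := by rw [hk]; norm_num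
    haveI := IsPGroup.isMulCommutative_of_card_eq_prime_sq (p := 2) hk
    have hSC : (S : Subgroup G) ≤ centralizer ({w} : Set G) := fun v hv =>
      mem_centralizer_singleton_iff.2
        (congrArg Subtype.val (mul_comm' (⟨v, hv⟩ : (S : Subgroup G)) ⟨w, hwS⟩))
    have hCeq : centralizer ({w} : Set G) = (S : Subgroup G) :=
      (eq_of_le_of_card_ge hSC (by omega)).symm
    have hsq : ∀ v ∈ (S : Subgroup G), v * v = 1 := by
      intro v hv
      have hd : orderOf v ∣ 2 ^ 2 := (show (2 : ℕ) ^ 2 = Nat.card (S : Subgroup G) from hk.symm) ▸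
        Subgroup.orderOf_dvd_natCard _ hv
      obtain ⟨i, hi, hv'⟩ := (Nat.dvd_prime_pow Nat.prime_two).1 hd
      interval_cases i
      · rw [pow_zero, orderOf_eq_one_iff] at hv'; simp [hv']
      · rw [← pow_two, ← show orderOf v = 2 by simpa using hv', pow_orderOf_eq_one]
      · exact absurd (isCyclic_of_orderOf_eq_card (⟨v, hv⟩ : (S : Subgroup G))
          (by rw [Subgroup.orderOf_mk, hv', hS4]; norm_num)) hncyc
    have hQi : (zpowers w).relIndex (S : Subgroup G) = 2 := by
      have h := ((zpowers w).subgroupOf (S : Subgroup G)).card_mul_index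
      rw [Nat.card_congr (subgroupOfEquivOfLe hS).toEquiv, Nat.card_zpowers, hw, hS4] at h
      rw [Subgroup.relIndex]
      omega
    have hzw : ∀ v ∈ zpowers w, v = 1 ∨ v = w := by
      intro v hv
      obtain ⟨i, rfl⟩ := mem_zpowers_iff.1 hv
      rcases Int.even_or_odd i with ⟨j, rfl⟩ | ⟨j, rfl⟩
      · left; rw [← two_mul, zpow_mul, zpow_two, hww, one_zpow]
      · right; rw [zpow_add, zpow_one, zpow_mul, zpow_two, hww, one_zpow, one_mul]
    have hone : ∀ v : G, orderOf v = 2 → IsConj w v := by
      intro v hv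
      obtain ⟨g, hg⟩ := Involution.exists_conj_mem_of_no_index_two (no_index_two hG) S (zpowers w)
        hS hQi v hv
      rcases hzw _ hg with h | h
      · rw [conj_eq_one_iff.1 h, orderOf_one] at hv
        omega
      · exact (isConj_iff.2 ⟨g, h⟩).symm
    obtain ⟨s, hsS, hsw⟩ : ∃ s ∈ (S : Subgroup G), s ∉ zpowers w := by
      by_contra h
      push Not at h
      have := card_dvd_of_le (h : (S : Subgroup G) ≤ zpowers w)
      rw [hS4, Nat.card_zpowers, hw] at this
      norm_num at this
    have hs1 : s ≠ 1 := fun h => hsw (h ▸ one_mem _)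
    have hsinv : s⁻¹ = s := inv_eq_of_mul_eq_one_right (hsq s hsS)
    obtain ⟨Su, hSK, -⟩ := BSW.exists_setup w hw (zpowers w) inferInstance
      (zpowers_le.2 hwC) (mem_zpowers w) s
      (orderOf_eq_prime (by rw [pow_two, hsq s hsS]) hs1) (hSC hsS) hsw
      (by
        rw [hCeq]
        refine le_antisymm (sup_le hS (zpowers_le.2 hsS)) ?_
        have h := card_eq_two_mul (C := zpowers w ⊔ zpowers s) (K := zpowers w) le_sup_left (w := s)
          (mem_sup_right (mem_zpowers s)) hsw fun g hg => by
            by_cases hgw : g ∈ zpowers w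
            · exact Or.inl hgw
            · right
              have hgS : g ∈ (S : Subgroup G) := sup_le hS (zpowers_le.2 hsS) hg
              have hidx : ((zpowers w).subgroupOf (S : Subgroup G)).index = 2 := hQi
              have := (mul_mem_iff_of_index_two hidx (a := (⟨s, hsS⟩ : (S : Subgroup G))⁻¹)
                (b := ⟨g, hgS⟩)).2 ⟨fun h => absurd (by simpa [mem_subgroupOf] using h) hsw,
                fun h => absurd (by simpa [mem_subgroupOf] using h) hgw⟩
              simpa [mem_subgroupOf] using this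
        rw [Nat.card_zpowers, hw] at h
        exact (eq_of_le_of_card_ge (sup_le hS (zpowers_le.2 hsS)) (by rw [hS4, h])).ge)
      (le_antisymm inf_le_left (le_inf le_rfl (fun v hv => by
        have hvS := hS hv
        exact mem_centralizer_singleton_iff.2
          (congrArg Subtype.val (mul_comm' (⟨v, hvS⟩ : (S : Subgroup G)) ⟨s, hsS⟩)))))
      (fun v hv => by
        have hvS := hS hv
        rw [show s * v = v * s from
          (congrArg Subtype.val (mul_comm' (⟨s, hsS⟩ : (S : Subgroup G)) ⟨v, hvS⟩)),
          mul_inv_cancel_right, inv_eq_of_mul_eq_one_right (hsq v hvS)])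
      (fun g hg => by
        rw [eq_bot_iff]
        rintro v ⟨hv, y, hy, rfl⟩
        rw [Subgroup.mem_bot]
        rcases hzw y hy with rfl | rfl
        · simp
        · refine absurd (mem_centralizer_singleton_iff.2 ?_) hg
          rcases hzw _ hv with h | h
          · have : y = 1 := conj_eq_one_iff.1 h
            rw [this, orderOf_one] at hw
            omega
          · exact mul_inv_eq_iff_eq_mul.1 h)
      (fun u v hu hv => (hone u hu).symm.trans (hone v hv))
    have hK2 : Nat.card Su.K = 2 := by rw [hSK, Nat.card_zpowers, hw]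
    refine Cfsg.Agent.S0494.result ?_
    rcases Su.card_group with h | h <;> rw [hK2] at h
    · rw [h]
    · exact Cfsg.Agent.S0493.result hG (by rw [h]; norm_num)

/-- An element of order 4 generating its centraliser gives the configuration. -/
theorem of_order_four (hG : ¬ IsCyclic G) {w : G} (hw : orderOf w = 4)
    (hC : Nat.card (centralizer ({w} : Set G)) ≤ 4) :
    ∃ (P : Sylow 2 G) (x : G), Conf P w x := by
  classical
  haveI : Fact (Nat.Prime 2) := ⟨Nat.prime_two⟩
  have hle : zpowers w ≤ centralizer ({w} : Set G) :=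
    zpowers_le.2 (mem_centralizer_singleton_iff.2 rfl)
  have hCeq : centralizer ({w} : Set G) = zpowers w :=
    (eq_of_le_of_card_ge hle (by rw [Nat.card_zpowers, hw]; exact hC)).symm
  have hC4 : Nat.card (centralizer ({w} : Set G)) = 4 := by rw [hCeq, Nat.card_zpowers, hw]
  have hself : ∀ g : G, g * w = w * g → g ∈ zpowers w := fun g hg =>
    hCeq ▸ mem_centralizer_singleton_iff.2 hg
  have hp : IsPGroup 2 (zpowers w) :=
    IsPGroup.of_card (n := 2) (by rw [Nat.card_zpowers, hw]; norm_num)
  obtain ⟨S, hS⟩ := hp.exists_le_sylow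
  have hwS : w ∈ (S : Subgroup G) := hS (mem_zpowers w)
  set w' : (S : Subgroup G) := ⟨w, hwS⟩ with hw'
  have hw'o : orderOf w' = 4 := by rw [← Subgroup.orderOf_coe, hw']; exact hw
  obtain ⟨k, hk⟩ := IsPGroup.iff_card.1 S.2
  have h4S : 4 ∣ Nat.card (S : Subgroup G) := 
    hw.symm.dvd.trans (Subgroup.orderOf_dvd_natCard _ hwS)
  have heven : Even (Nat.card G) := even_iff_two_dvd.2
    (((show 2 ∣ 4 by norm_num).trans h4S).trans (card_subgroup_dvd_card _))
  have hk2 : 2 ≤ k := by
    rw [hk, show (4 : ℕ) = 2 ^ 2 by norm_num] at h4S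
    exact (Nat.pow_dvd_pow_iff_le_right (by norm_num)).1 h4S
  have hk3 : 3 ≤ k := by
    by_contra h
    obtain rfl : k = 2 := by omega
    have hcyc : IsCyclic (S : Subgroup G) :=
      isCyclic_of_orderOf_eq_card w' (by rw [hw'o, hk]; norm_num)
    obtain ⟨M, -, hM⟩ := Involution.exists_index_two_of_isCyclic_sylow heven S hcyc
    exact no_index_two hG M hM
  have hCS : centralizer ((zpowers w' : Subgroup (S : Subgroup G)) : Set (S : Subgroup G)) =
      zpowers w' := by
    rw [zpowers_eq_closure, centralizer_closure, ← zpowers_eq_closure]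
    refine le_antisymm (fun v hv => ?_) (zpowers_le.2 (mem_centralizer_singleton_iff.2 rfl))
    obtain ⟨i, hi⟩ := mem_zpowers_iff.1
      (hself (v : G) (congrArg Subtype.val (mem_centralizer_singleton_iff.1 hv)))
    exact mem_zpowers_iff.2 ⟨i, Subtype.ext hi⟩
  have hclass := Cfsg.Agent.S0112.result k hk (zpowers w')
    (by rw [Nat.card_zpowers, hw'o]; norm_num) hCS
  have hklein := (Cfsg.Agent.S0115.result k hk3 hk).1 hclass
  have hab : Nat.card (Abelianization (S : Subgroup G)) = 4 := hklein.card_four
  have hexp : ∀ u : Abelianization (S : Subgroup G), u ^ 2 = 1 := fun u => by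
    have h := Monoid.pow_exponent_eq_one (G := (S : Subgroup G) ⧸ commutator (S : Subgroup G)) u
    rwa [hklein.exponent_two] at h
  have hS8 : 8 ≤ Nat.card (S : Subgroup G) := by
    rw [hk]; exact (show 2 ^ 3 = 8 by norm_num) ▸ Nat.pow_le_pow_right two_pos hk3
  rcases Cfsg.Agent.S4399.result S.2 hab hexp with
    h | ⟨j, hj⟩ | ⟨j, hjc, a, b, ha, hb, hrel⟩ | ⟨j, ⟨e⟩⟩
  · omega
  · -- dihedral
    obtain ⟨e⟩ := hj
    obtain rfl : j = 0 := by
      by_contra hj0
      have h8 : 2 ^ 3 ≤ 2 ^ (j + 2) := Nat.pow_le_pow_right two_pos (by omega)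
      haveI : NeZero (2 ^ (j + 2)) := ⟨by positivity⟩
      obtain ⟨i, hi⟩ : ∃ i, e w' = DihedralGroup.r i := by
        rcases h : e w' with i | i
        · exact ⟨i, rfl⟩
        · have ho : orderOf (e w') = 2 := by rw [h, DihedralGroup.orderOf_sr]
          rw [MulEquiv.orderOf_eq, hw'o] at ho
          omega
      set v := e.symm (DihedralGroup.r 1) with hv
      have hvw : v * w' = w' * v := e.injective (by
        rw [map_mul, map_mul, hv, MulEquiv.apply_symm_apply, hi, DihedralGroup.r_mul_r,
          DihedralGroup.r_mul_r]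
        exact congrArg _ (add_comm _ _))
      have hvo : orderOf (v : G) = 2 ^ (j + 2) := by
        rw [Subgroup.orderOf_coe, hv, MulEquiv.orderOf_eq, DihedralGroup.orderOf_r_one]
      have := Subgroup.orderOf_dvd_natCard _
        (mem_centralizer_singleton_iff.2 (congrArg Subtype.val hvw) :
          (v : G) ∈ centralizer ({w} : Set G))
      rw [hvo, hC4] at this
      have := Nat.le_of_dvd (by norm_num) this
      omega
    obtain ⟨x, D⟩ := exists_dsylow_of_iso (P := S) (n := 3) le_rfl
      ⟨e.trans (MulEquiv.refl (DihedralGroup (2 ^ (3 - 1))))⟩ hwS (by rw [hw]; norm_num)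
    have D' : DSylow S w x 2 := D
    refine ⟨S, x, D', hself, fun u hu => ?_, ⟨e⟩⟩
    have hQi : (zpowers w).relIndex (S : Subgroup G) = 2 := by
      have h := ((zpowers w).subgroupOf (S : Subgroup G)).card_mul_index
      rw [Nat.card_congr (subgroupOfEquivOfLe hS).toEquiv, Nat.card_zpowers, hw, D'.card] at h
      rw [Subgroup.relIndex]
      omega
    obtain ⟨g, hg⟩ := Involution.exists_conj_mem_of_no_index_two (no_index_two hG) S (zpowers w)
      hS hQi u hu
    have ho : orderOf (g * u * g⁻¹) = 2 := hu ▸ MulEquiv.orderOf_eq (MulAut.conj g) u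
    rcases (D'.sq_eq_one_iff hg).1 (by rw [← pow_two, ← ho, pow_orderOf_eq_one]) with h | h
    · rw [h, orderOf_one] at ho
      omega
    · exact (isConj_iff.2 ⟨g, h⟩).symm
  · -- quasi-dihedral
    exfalso
    have hqd : Cfsg.IsQuasiDihedral (S : Subgroup G) :=
      ⟨j + 3, by omega, hjc, a, b, ha, hb, hrel⟩
    obtain ⟨n, p, q, h⟩ := TwoGroup.exists_qdGen hqd
    by_cases hab' : IsConj (TwoGroup.QDFusion.aG S h) (TwoGroup.QDFusion.bG S h)
    · have hconj : IsConj w (TwoGroup.QDFusion.aG S h) :=
        (TwoGroup.QDFusion.order_four_classes h hw).elim id (fun h' => h'.trans hab'.symm)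
      have hmem : (p : G) ∈ centralizer ({TwoGroup.QDFusion.aG S h} : Set G) :=
        mem_centralizer_singleton_iff.2 (congrArg Subtype.val (Commute.self_zpow p _).eq)
      have hd := Subgroup.orderOf_dvd_natCard _ hmem
      rw [← card_centralizer_congr hconj, hC4, Subgroup.orderOf_coe, h.ord_x] at hd
      have := Nat.le_of_dvd (by norm_num) hd
      have h8 : 2 ^ 3 ≤ 2 ^ n := Nat.pow_le_pow_right two_pos h.le_n
      omega
    · obtain ⟨K, -, hK, -⟩ := TwoGroup.exists_index_two_extend S _ (h.index_hd_two 0)
        (TwoGroup.QDFusion.invariant_hd_two_zero h hab')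
      exact no_index_two hG K hK
  · -- generalized quaternion
    exfalso
    have h2 := Cfsg.Agent.S0201.result S j e fun N hN hodd => by
      refine (IsSimpleGroup.eq_bot_or_eq_top_of_normal N hN).resolve_right fun ht => ?_
      rw [ht, Subgroup.card_top] at hodd
      exact Nat.not_even_iff_odd.2 hodd heven
    rw [center_eq_bot hG, Subgroup.card_bot] at h2
    omega

end Cfsg.Agent.Lib.CentFour74
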