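import Cfsg.Agent.Lib.CentFour74.Equations
import Cfsg.Agent.Lib.CentFour74.Equal
import Cfsg.Agent.Lib.CentFour74.Number
import Cfsg.Agent.Lib.CentFour74.Reduce
import Cfsg.Agent.Lib.LinGroup.Order
import Cfsg.Agent.Lib.PSolvable.Core
import Cfsg.Agent.S0984
import Cfsg.Agent.S3035
import Cfsg.Agent.S0495

/-!
# Simple groups with an element of order 4 generating its centraliser
-/

set_option autoImplicit false
set_option linter.unusedSectionVars false

namespace Cfsg.Agent.Lib.CentFour74

open Subgroup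
open Cfsg
open Cfsg.Agent.Lib Cfsg.Agent.Lib.DihedralBlock

universe u

variable {G : Type u} [Group G] [Finite G]

theorem card_sl32 : Nat.card (Matrix.SpecialLinearGroup (Fin 3) (ZMod 2)) = 168 := by
  haveI : Fact (Nat.Prime 2) := ⟨Nat.prime_two⟩
  have h := LinGroup.card_SL_mul (F := ZMod 2) 3 (by norm_num)
  simp only [ZMod.card] at h
  rw [Fin.prod_univ_three] at h
  norm_num at h
  rw [Nat.card_eq_fintype_card]
  exact h

/-- The order is bounded by the equation of the principal block. -/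
theorem order_bound {N A : ℕ} {f δ : ℤ} (hN : N % 16 = 8) (hδ : δ = 1 ∨ δ = -1) (hf : 3 ≤ f)
    (hfo : Odd f)
    (e : (N : ℤ) * (f - δ) ^ 2 = 64 * f * (f + δ) * ((A : ℤ) * A * ((A : ℤ) + A) ^ 2)) :
    N ≤ 360 * A ^ 4 := by
  obtain ⟨g, hg, hgo⟩ : ∃ g : ℤ, (N : ℤ) = 8 * g ∧ Odd g :=
    ⟨((N / 8 : ℕ) : ℤ), by omega, by rw [Int.odd_iff]; omega⟩
  obtain ⟨r, hr⟩ : ∃ r : ℤ, f - δ = 2 * r := by
    rw [Int.odd_iff] at hfo
    exact ⟨(f - δ) / 2, by rcases hδ with rfl | rfl <;> omega⟩
  have hrel : g * r ^ 2 = 16 * (f * (r + δ) * (A : ℤ) ^ 4) := by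
    rw [hg, hr, show f + δ = 2 * (r + δ) by linarith] at e
    linear_combination (1 / 32 : ℤ) * (0 : ℤ) + (Int.eq_of_mul_eq_mul_left
      (show (32 : ℤ) ≠ 0 by norm_num) (by linear_combination e) :
        g * r ^ 2 = 16 * (f * (r + δ) * (A : ℤ) ^ 4))
  have heven : ∀ s m : ℤ, g * s ^ 2 = 2 * m → ∃ s', s = 2 * s' := by
    intro s m h
    have h2 : Even (g * s ^ 2) := ⟨m, by rw [h]; ring⟩
    rw [Int.even_mul, Int.even_pow] at h2
    rcases h2 with h2 | ⟨⟨s', hs'⟩, -⟩
    · exact absurd h2 (Int.not_even_iff_odd.2 hgo)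
    · exact ⟨s', by rw [hs']; ring⟩
  obtain ⟨s, rfl⟩ := heven r (8 * (f * (r + δ) * (A : ℤ) ^ 4)) (by rw [hrel]; ring)
  obtain ⟨j, rfl⟩ := heven s (2 * (f * (2 * s + δ) * (A : ℤ) ^ 4)) (by linarith)
  have hb : 256 * (f * (f + δ)) ≤ 360 * (f - δ) ^ 2 := by
    rcases hδ with rfl | rfl
    · have : 9 ≤ f := by omega
      nlinarith
    · have : 7 ≤ f := by omega
      nlinarith
  have hd : 0 < (f - δ) ^ 2 := by
    have : f - δ ≠ 0 := by rcases hδ with rfl | rfl <;> omega
    positivity
  have hA : (0 : ℤ) ≤ (A : ℤ) ^ 4 := by positivity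
  have key : (N : ℤ) * (f - δ) ^ 2 ≤ 360 * (A : ℤ) ^ 4 * (f - δ) ^ 2 := by
    rw [e]
    calc 64 * f * (f + δ) * ((A : ℤ) * A * ((A : ℤ) + A) ^ 2)
        = 256 * (f * (f + δ)) * (A : ℤ) ^ 4 := by ring
      _ ≤ 360 * (f - δ) ^ 2 * (A : ℤ) ^ 4 := mul_le_mul_of_nonneg_right hb hA
      _ = _ := by ring
  exact_mod_cast le_of_mul_le_mul_right key hd

namespace Conf

variable {P : Sylow 2 G} {w x : G} (c : Conf P w x)
include c

theorem card_mod_sixteen : Nat.card G % 16 = 8 := by
  haveI : Fact (Nat.Prime 2) := ⟨Nat.prime_two⟩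
  have h := (P : Subgroup G).card_mul_index
  rw [c.dih.card] at h
  have h2 := P.not_dvd_index
  omega

/-- The case `a = 5`, `b = 1`. -/
theorem false_of_five [IsSimpleGroup G] (hperf : commutator G = ⊤)
    (ha5 : Nat.card (fixPart w x) = 5) (hb : Nat.card (fixPart w (x * w)) = 1)
    (hN : Nat.card G = 7560) : False := by
  classical
  haveI : Fact (Nat.Prime 5) := ⟨by norm_num⟩
  obtain ⟨a₀, ha, ha1⟩ := (Subgroup.bot_or_exists_ne_one (fixPart w x)).resolve_left fun h => by
    rw [h, Subgroup.card_bot] at ha5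
    omega
  have hcard := c.card_cent ha ha1 hperf
  have hndvd := c.nVal_dvd ha ha1
  rw [ha5, hb] at hcard
  rw [ha5] at hndvd
  have hH : Nat.card (centralizer ({a₀} : Set G)) = 60 := by
    rcases (Nat.dvd_prime (by norm_num)).1 hndvd with h | h <;> rw [h] at hcard
    · rw [hcard]
    · exfalso
      have := card_subgroup_dvd_card (centralizer ({a₀} : Set G))
      rw [hcard, hN] at this
      norm_num at this
  have hSA : Nat.card (signCent a₀) = 120 := by rw [c.card_signCent ha ha1, hH]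
  have hord : orderOf a₀ = 5 := by
    have hd : orderOf a₀ ∣ 5 := ha5 ▸ Subgroup.orderOf_dvd_natCard (fixPart w x) ha
    rcases (Nat.dvd_prime (by norm_num)).1 hd with h | h
    · exact absurd (orderOf_eq_one_iff.1 h) ha1
    · exact h
  set A := zpowers a₀ with hA
  have hA5 : Nat.card A = 5 := by rw [Nat.card_zpowers, hord]
  have hfac : (Nat.card G).factorization 5 = 1 := by
    rw [hN, show (7560 : ℕ) = 5 * 1512 by norm_num,
      Nat.factorization_mul (by norm_num) (by norm_num), Finsupp.add_apply,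
      Nat.Prime.factorization_self (by norm_num),
      Nat.factorization_eq_zero_of_not_dvd (by norm_num : ¬ 5 ∣ 1512)]
  let T : Sylow 5 G := Sylow.ofCard A (by rw [hA5, hfac, pow_one])
  have hle : signCent a₀ ≤ normalizer (A : Set G) := by
    intro g hg
    refine mem_normalizer_of_conj A fun z hz => ?_
    obtain ⟨i, rfl⟩ := mem_zpowers_iff.1 hz
    rw [← conj_zpow]
    rcases hg with h | h <;> rw [h]
    · exact zpow_mem (mem_zpowers a₀) i
    · exact zpow_mem (inv_mem (mem_zpowers a₀)) i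
  have hCle : centralizer (A : Set G) ≤ normalizer (A : Set G) := centralizer_le_normalizer _
  have hidx : ((centralizer (A : Set G)).subgroupOf (normalizer (A : Set G))).index ∣ 4 := by
    rw [← normalizerMonoidHom_ker, Subgroup.index_ker]
    refine (card_subgroup_dvd_card _).trans ?_
    rw [IsCyclic.card_mulAut, hA5]
    decide
  have hN' := ((centralizer (A : Set G)).subgroupOf (normalizer (A : Set G))).card_mul_index
  rw [Nat.card_congr (subgroupOfEquivOfLe hCle).toEquiv, centralizer_zpowers, hH] at hN'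
  rw [centralizer_zpowers] at hidx
  have h120 : 120 ∣ Nat.card (normalizer (A : Set G)) := hSA ▸ card_dvd_of_le hle
  have hG' : Nat.card (normalizer (A : Set G)) ∣ 7560 := hN ▸ card_subgroup_dvd_card _
  have hcardN : Nat.card (normalizer (A : Set G)) = 120 := by
    obtain ⟨i, hi⟩ := h120
    rw [← hN'] at hi hG'
    set k := ((centralizer ({a₀} : Set G)).subgroupOf (normalizer (A : Set G))).index
    have hk4 := Nat.le_of_dvd (by norm_num) hidx
    rw [← hN']
    interval_cases k <;> first | omega | norm_num at hG'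
  have hn : Nat.card (Sylow 5 G) = 63 := by
    rw [T.card_eq_index_normalizer]
    have h := (normalizer (A : Set G)).card_mul_index
    rw [hcardN, hN] at h
    change (normalizer (A : Set G)).index = 63
    omega
  have hmod := card_sylow_modEq_one 5 G
  rw [hn] at hmod
  exact absurd hmod (by decide)

/-- Both parts trivial. -/
theorem of_trivial [IsSimpleGroup G] (hG : ¬ IsCyclic G) (ha : Nat.card (fixPart w x) = 1)
    (hb : Nat.card (fixPart w (x * w)) = 1) :
    Nonempty (G ≃* alternatingGroup (Fin 6)) ∨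
      Nonempty (G ≃* Matrix.ProjectiveSpecialLinearGroup (Fin 2) (ZMod 7)) := by
  classical
  haveI : Fact (Nat.Prime 2) := ⟨Nat.prime_two⟩
  haveI : Fact (Nat.Prime 7) := ⟨by norm_num⟩
  have hC8 : Nat.card (centralizer ({w ^ 2} : Set G)) = 8 := by rw [c.card_C, ha, hb]
  have hPC : (P : Subgroup G) = centralizer ({w ^ 2} : Set G) :=
    eq_of_le_of_card_ge c.dih.P_le_centralizer_J (by rw [hC8, c.dih.card])
  obtain ⟨e⟩ := c.iso
  have heven : Even (Nat.card G) :=
    even_iff_two_dvd.2 (c.t_order ▸ orderOf_dvd_natCard (w ^ 2))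
  rcases Cfsg.Agent.S3035.result (w ^ 2) c.t_order
      ⟨(MulEquiv.subgroupCongr hPC.symm).trans e⟩ with h | ⟨⟨e'⟩⟩ | ⟨⟨e'⟩⟩ | ⟨⟨e'⟩⟩ | h
  · exfalso
    have hbot : Cfsg.oddCore G = ⊥ := by
      refine (IsSimpleGroup.eq_bot_or_eq_top_of_normal (Cfsg.oddCore G)
        inferInstance).resolve_right fun ht => ?_
      refine PSolvable.pPrimeCore_not_dvd (p := 2) (G := G) ?_
      show 2 ∣ Nat.card (Cfsg.oddCore G)
      rw [ht, Subgroup.card_top]
      exact even_iff_two_dvd.1 heven
    rw [hbot, sup_bot_eq] at h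
    have hz : w ^ 2 ∈ center G := mem_center_iff.2 fun g =>
      mem_centralizer_singleton_iff.1 (h ▸ mem_top g)
    rw [center_eq_bot hG, Subgroup.mem_bot] at hz
    exact c.t_ne hz
  · exfalso
    have hc := Nat.card_congr e'.toEquiv
    rw [Nat.card_perm, Nat.card_fin] at hc
    have := Cfsg.Agent.S0493.result hG (by rw [hc]; decide)
    rw [hc] at this
    exact absurd this (by decide)
  · exfalso
    exact no_index_two hG ((alternatingGroup (Fin 5)).comap e'.toMonoidHom)
      (by rw [index_comap_of_surjective _ e'.surjective, alternatingGroup.index_eq_two])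
  · refine Or.inr (Cfsg.Agent.S0495.result ?_ (ZMod.card 7))
    rw [Nat.card_congr e'.toEquiv, card_sl32]
  · exact Or.inl h

/-- The result for a configuration with `b = 1 ≠ a`. -/
theorem of_one_trivial [IsSimpleGroup G] (hperf : commutator G = ⊤)
    (ha : Nat.card (fixPart w x) ≠ 1) (hb : Nat.card (fixPart w (x * w)) = 1) :
    Nonempty (G ≃* alternatingGroup (Fin 7)) := by
  obtain ⟨f, δ, u, v, hδ, hfo, hf, hu, hv, huv, e1, e2⟩ := c.block_equations hperf
  have hodd : Odd (Nat.card (fixPart w x)) :=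
    Odd.of_dvd_nat c.odd_core (card_dvd_of_le c.fixPart_le)
  have h3 : 3 ≤ Nat.card (fixPart w x) := by
    rw [Nat.odd_iff] at hodd
    omega
  rw [hb] at e1 e2
  rcases candidates (f := (f : ℤ)) h3 hodd c.card_mod_sixteen hδ (by exact_mod_cast hf)
      (by exact_mod_cast hfo) hu hv huv (by push_cast at e1 ⊢; linear_combination e1)
      (by push_cast at e2 ⊢; linear_combination e2) with ⟨-, h⟩ | ⟨h5, h⟩
  · exact Cfsg.Agent.S0984.result h
  · exact (c.false_of_five hperf h5 hb h).elim

/-- The theorem for a configuration. -/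
theorem conclusion [IsSimpleGroup G] (hG : ¬ IsCyclic G) :
    Nonempty (G ≃* alternatingGroup (Fin 6)) ∨ Nonempty (G ≃* alternatingGroup (Fin 7)) ∨
      Nonempty (G ≃* Matrix.ProjectiveSpecialLinearGroup (Fin 2) (ZMod 7)) := by
  have hperf := commutator_eq_top hG
  by_cases hb : Nat.card (fixPart w (x * w)) = 1
  · by_cases ha : Nat.card (fixPart w x) = 1
    · exact (c.of_trivial hG ha hb).imp id Or.inr
    · exact Or.inr (Or.inl (c.of_one_trivial hperf ha hb))
  · by_cases ha : Nat.card (fixPart w x) = 1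
    · refine Or.inr (Or.inl (c.swap.of_one_trivial hperf hb ?_))
      rwa [c.fixPart_swap_swap]
    · exfalso
      obtain ⟨a₀, ha0, ha1⟩ := (Subgroup.bot_or_exists_ne_one (fixPart w x)).resolve_left
        fun h => ha (by rw [h, Subgroup.card_bot])
      obtain ⟨b₀, hb0, hb1⟩ := (Subgroup.bot_or_exists_ne_one (fixPart w (x * w))).resolve_left
        fun h => hb (by rw [h, Subgroup.card_bot])
      obtain ⟨f, δ, u, v, hδ, hfo, hf, -, -, -, e1, -⟩ := c.block_equations hperf
      rw [← c.eq_cards hperf ha0 ha1 hb0 hb1] at e1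
      exact c.false_of_both hperf ha0 ha1 hb0 hb1
        (order_bound (f := (f : ℤ)) c.card_mod_sixteen hδ (by exact_mod_cast hf)
          (by exact_mod_cast hfo) e1)

end Conf

end Cfsg.Agent.Lib.CentFour74
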